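import Groth.Agent.MultHomLib.Global
import Groth.Agent.GaGmKerLib.GaPts

/-!
A group of multiplicative type has no homomorphism to the additive group.
-/

set_option autoImplicit false
set_option backward.isDefEq.respectTransparency false

noncomputable section

universe u

open CategoryTheory CategoryTheory.Limits MonoidalCategory CartesianMonoidalCategory AlgebraicGeometry CoactBr
open scoped MonObj

namespace Groth.Agent.MultHom

open Groth.Agent.FreeAct (DA chr)
open Groth.Agent.MonoLocus (hpt hpt_mul hpt_surjective)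
open Groth.Agent.MultEq (hpt_natural)

attribute [local instance] CoactBr.braidedAlgSpecOf

variable {S : Scheme.{u}} {H : Over S} [GrpObj H] (u : H ⟶ Red.Ga S) [IsMonHom u]

theorem hpt_comp_eq_one {R : Type u} [CommRing R] {M : Type} [AddCommGroup M] (p : Spec (CommRingCat.of R) ⟶ S)
    (w : sp R (DA R M) ≅ Red.bc p H) [IsMonHom w.hom] :
    hpt p w (MonoidAlgebra.of R (Multiplicative M)) ≫ u = 1 := by
  classical
  let D : Type u := DA R M
  let D₂ : Type u := MonoidAlgebra R (Multiplicative M × Multiplicative M)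
  let χ₀ : Multiplicative M →* D := MonoidAlgebra.of R (Multiplicative M)
  let fn : ∀ {A : Type u} [CommRing A] [Algebra R A], (Multiplicative M →* A) → A := fun {A} _ _ χ =>
    (Scheme.ΓSpecIso (CommRingCat.of A)).hom (Red.gaFn (hpt p w χ ≫ u))
  have hnat : ∀ {A B : Type u} [CommRing A] [Algebra R A] [CommRing B] [Algebra R B] (L : A →ₐ[R] B)
      (χ : Multiplicative M →* A), fn (L.toRingHom.toMonoidHom.comp χ) = L (fn χ) := by
    intro A B _ _ _ _ L χ
    show (Scheme.ΓSpecIso (CommRingCat.of B)).hom _ = _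
    rw [← hpt_natural p w L χ, Category.assoc, GaPts.gaFn_comp]
    exact congrArg (fun ψ => (ConcreteCategory.hom ψ) (Red.gaFn (hpt p w χ ≫ u)))
      (Scheme.ΓSpecIso_naturality (CommRingCat.ofHom L.toRingHom))
  have hadd : ∀ {A : Type u} [CommRing A] [Algebra R A] (χ χ' : Multiplicative M →* A),
      fn (χ * χ') = fn χ + fn χ' := by
    intro A _ _ χ χ'
    show (Scheme.ΓSpecIso (CommRingCat.of A)).hom _ = _
    rw [hpt_mul, MultLift.hom_mul u, GaPts.gaFn_mul]
    exact map_add _ _ _
  have hmap : ∀ f : Multiplicative M →* Multiplicative M × Multiplicative M,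
      MonoidAlgebra.mapDomainAlgHom R R f (fn χ₀) = fn ((MonoidAlgebra.of R _).comp f : Multiplicative M →* D₂) := by
    intro f
    rw [← hnat]
    exact congrArg fn (MonoidHom.ext fun m => by simp [χ₀])
  have hzero : fn χ₀ = 0 := by
    refine EqNhd.eq_zero_of_primitive (fn χ₀) ?_
    rw [hmap, hmap, hmap, ← hadd]
    exact congrArg fn (MonoidHom.ext fun m => by simp [MonoidAlgebra.single_mul_single, D₂])
  apply GaPts.gaFn_injective
  show Red.gaFn _ = Red.gaFn _
  rw [GaPts.gaFn_one]
  exact (Scheme.ΓSpecIso (CommRingCat.of D)).commRingCatIsoToRingEquiv.injective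
    (hzero.trans (map_zero _).symm)

theorem fst_comp_eq {R : Type u} [CommRing R] {M : Type} [AddCommGroup M] (p : Spec (CommRingCat.of R) ⟶ S)
    (w : sp R (DA R M) ≅ Red.bc p H) [IsMonHom w.hom] :
    pullback.fst H.hom p ≫ u.left = pullback.fst H.hom p ≫ (1 : H ⟶ Red.Ga S).left := by
  let a₀ := ((Over.mapPullbackAdj p).homEquiv (sp R (DA R M)) H).symm w.hom
  have hchr : chr (R := R) (DA R M) (MonoidAlgebra.of R (Multiplicative M)) = AlgHom.id R _ :=
    AlgHom.toLinearMap_injective ((MonoidAlgebra.basis (Multiplicative M) R).ext fun m => by simp [chr])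
  have h0 : hpt p w (MonoidAlgebra.of R (Multiplicative M)) = a₀ := by
    rw [hpt, hchr, pt_id, CategoryTheory.Functor.map_id]
    exact Category.id_comp _
  have h1 : a₀ ≫ u = a₀ ≫ (1 : H ⟶ Red.Ga S) := by
    rw [MonObj.comp_one, ← h0]
    exact hpt_comp_eq_one u p w
  have h2 : a₀.left = w.hom.left ≫ pullback.fst H.hom p := by
    simp [a₀, Over.mapPullbackAdj]
  have h3 := congrArg CommaMorphism.left h1
  simp only [Over.comp_left, h2, Category.assoc] at h3
  haveI : IsIso w.hom.left := inferInstanceAs (IsIso ((Over.forget _).map w.hom))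
  exact (cancel_epi w.hom.left).1 h3

theorem eq_one (hH : SGA3x.IsMultTypeFT H) : u = 1 := by
  obtain ⟨S', f, hflat, hsurj, -, hloc⟩ := hH
  haveI := hflat
  haveI := hsurj
  have hpiece : ∀ x : S', ∃ (R : Type u) (_ : CommRing R) (κ : Spec (CommRingCat.of R) ⟶ S), Flat κ ∧
      f x ∈ Set.range κ ∧
      pullback.fst H.hom κ ≫ u.left = pullback.fst H.hom κ ≫ (1 : H ⟶ Red.Ga S).left := by
    intro x
    obtain ⟨U, hxU, M, _, _, ⟨e⟩⟩ := hloc x
    obtain ⟨T, hT, hxT, hTU⟩ := exists_isAffineOpen_mem_and_subset (X := S') (x := x) hxU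
    haveI : IsAffine (T : Scheme.{u}) := hT
    let j : Spec (CommRingCat.of Γ((T : Scheme.{u}), ⊤)) ⟶ (T : Scheme.{u}) := (T : Scheme.{u}).isoSpec.inv
    obtain ⟨w, hw⟩ := MultLift.exists_split_iso e (j ≫ S'.homOfLE hTU) (j ≫ T.ι ≫ f) (by
      rw [Category.assoc, Scheme.homOfLE_ι_assoc])
    haveI := hw
    refine ⟨_, inferInstance, j ≫ T.ι ≫ f, ?_, ?_, fst_comp_eq u _ w⟩
    · show Flat ((T : Scheme.{u}).isoSpec.inv ≫ T.ι ≫ f)
      infer_instance
    · obtain ⟨a, ha⟩ := (T : Scheme.{u}).isoSpec.inv.surjective ⟨x, hxT⟩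
      refine ⟨a, ?_⟩
      show ((T : Scheme.{u}).isoSpec.inv ≫ T.ι ≫ f) a = f x
      rw [Scheme.Hom.comp_apply, ha]
      rfl
  choose R _ κ hκflat hκmem hκ using hpiece
  haveI : ∀ x, Flat (pullback.fst H.hom (κ x)) := fun x => by haveI := hκflat x; infer_instance
  haveI : Surjective (Sigma.desc fun x => pullback.fst H.hom (κ x)) := ⟨fun z => by
    obtain ⟨x, hx⟩ := f.surjective (H.hom z)
    obtain ⟨i, w, hw⟩ := exists_lift_point H.hom κ (fun y => by
      obtain ⟨x, rfl⟩ := f.surjective y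
      exact ⟨x, hκmem x⟩) z
    exact ⟨(Sigma.ι (fun x => pullback H.hom (κ x)) i) w, by rw [← Scheme.Hom.comp_apply, Sigma.ι_desc, hw]⟩⟩
  haveI := Flat.epi_of_flat_of_surjective (Sigma.desc fun x => pullback.fst H.hom (κ x))
  refine Over.OverMorphism.ext ((cancel_epi (Sigma.desc fun x => pullback.fst H.hom (κ x))).1
    (Sigma.hom_ext _ _ fun x => ?_))
  rw [Sigma.ι_desc_assoc, Sigma.ι_desc_assoc]
  exact hκ x

end Groth.Agent.MultHom
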