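import Groth.Agent.MultHomLib.Piece
import Groth.Agent.SweepSix.FlatCancel

/-!
Descent of monomorphisms and of flat surjective morphisms along flat jointly surjective families.
-/

set_option autoImplicit false

noncomputable section

universe u

open CategoryTheory CategoryTheory.Limits AlgebraicGeometry

namespace Groth.Agent.MultHom

/-- Descent along flat jointly surjective families. -/
def Descends (P : MorphismProperty Scheme.{u}) : Prop :=
  ∀ {X Y : Scheme.{u}} (f : X ⟶ Y) {I : Type u} {Y' : I → Scheme.{u}} (q : ∀ i, Y' i ⟶ Y),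
    (∀ i, Flat (q i)) → (∀ y : Y, ∃ i, y ∈ Set.range (q i)) → (∀ i, P (pullback.snd f (q i))) → P f

theorem exists_lift_point {X Y : Scheme.{u}} (f : X ⟶ Y) {I : Type u} {Y' : I → Scheme.{u}} (q : ∀ i, Y' i ⟶ Y)
    (hq : ∀ y : Y, ∃ i, y ∈ Set.range (q i)) (x : X) : ∃ i, x ∈ Set.range (pullback.fst f (q i)) := by
  obtain ⟨i, y', hy⟩ := hq (f x)
  obtain ⟨z, hz, -⟩ := Scheme.Pullback.exists_preimage_pullback (f := f) (g := q i) x y' hy.symm
  exact ⟨i, z, hz⟩

theorem descends_mono : Descends.{u} (MorphismProperty.monomorphisms Scheme.{u}) := by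
  intro X Y f I Y' q hfl hq h
  refine ⟨fun {Z} a b hab => ?_⟩
  haveI : ∀ i, Flat (pullback.fst (a ≫ f) (q i)) := fun i => by haveI := hfl i; infer_instance
  haveI : Surjective (Sigma.desc fun i => pullback.fst (a ≫ f) (q i)) := ⟨fun z => by
    obtain ⟨i, w, hw⟩ := exists_lift_point (a ≫ f) q hq z
    refine ⟨(Sigma.ι (fun i => pullback (a ≫ f) (q i)) i) w, ?_⟩
    rw [← Scheme.Hom.comp_apply, Sigma.ι_desc, hw]⟩
  haveI := Flat.epi_of_flat_of_surjective (Sigma.desc fun i => pullback.fst (a ≫ f) (q i))
  rw [← cancel_epi (Sigma.desc fun i => pullback.fst (a ≫ f) (q i))]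
  refine Sigma.hom_ext _ _ fun i => ?_
  rw [Sigma.ι_desc_assoc, Sigma.ι_desc_assoc]
  haveI : Mono (pullback.snd f (q i)) := h i
  have e1 : (pullback.fst (a ≫ f) (q i) ≫ a) ≫ f = pullback.snd (a ≫ f) (q i) ≫ q i := by
    rw [Category.assoc, pullback.condition]
  have e2 : (pullback.fst (a ≫ f) (q i) ≫ b) ≫ f = pullback.snd (a ≫ f) (q i) ≫ q i := by
    rw [Category.assoc, ← hab, pullback.condition]
  have := congrArg (· ≫ pullback.fst f (q i))
    ((cancel_mono (pullback.snd f (q i))).1
      ((pullback.lift_snd _ _ e1).trans (pullback.lift_snd _ _ e2).symm))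
  simpa only [pullback.lift_fst] using this

theorem descends_fs : Descends.{u} FS := by
  intro X Y f I Y' q hfl hq h
  refine ⟨?_, ⟨fun y => ?_⟩⟩
  · rw [Flat.iff_flat_stalkMap]
    intro x
    obtain ⟨i, w, rfl⟩ := exists_lift_point f q hq x
    haveI := hfl i
    haveI : Flat (pullback.snd f (q i)) := (h i).1
    haveI : Flat (pullback.fst f (q i) ≫ f) := by rw [pullback.condition]; infer_instance
    exact (SweepSix.flat_stalkMap_comp_iff _ f w (Flat.stalkMap _ w)).1
      (Flat.stalkMap (pullback.fst f (q i) ≫ f) w)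
  · obtain ⟨i, y', rfl⟩ := hq y
    haveI : Surjective (pullback.snd f (q i)) := (h i).2
    obtain ⟨w, rfl⟩ := (pullback.snd f (q i)).surjective y'
    exact ⟨pullback.fst f (q i) w, by rw [← Scheme.Hom.comp_apply, pullback.condition, Scheme.Hom.comp_apply]⟩

/-- A flat surjective quasi-compact monomorphism of schemes is an isomorphism. -/
theorem isIso_of_mono_fs {X Y : Scheme.{u}} (f : X ⟶ Y) [Mono f] [QuasiCompact f] (h : FS f) : IsIso f :=
  MorphismProperty.of_pullback_fst_of_descendsAlong (P := MorphismProperty.isomorphisms Scheme.{u})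
    (Q := @Surjective ⊓ @Flat ⊓ @QuasiCompact) (f := f) (g := f) ⟨⟨h.2, h.1⟩, inferInstance⟩
    (inferInstanceAs (IsIso (pullback.fst f f)))

variable {S : Scheme.{u}} {X Y : Over S}

/-- Descent for a morphism over the base, read along a family of bases. -/
theorem of_family {P : MorphismProperty Scheme.{u}} [P.IsStableUnderBaseChange] (hP : Descends P) (u : X ⟶ Y)
    {T : Scheme.{u}} (κ : T ⟶ S) {I : Type u} {T' : I → Scheme.{u}} (g : ∀ i, T' i ⟶ T) (hg : ∀ i, Flat (g i))
    (hsurj : ∀ t : T, ∃ i, t ∈ Set.range (g i))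
    (h : ∀ i, P ((Over.pullback (g i ≫ κ)).map u).left) : P ((Over.pullback κ).map u).left := by
  let f := (Over.pullback κ).map u
  refine hP f.left (fun i => pullback.fst ((Over.pullback κ).obj Y).hom (g i)) (fun i => ?_) (fun y => ?_) fun i => ?_
  · haveI := hg i; infer_instance
  · exact exists_lift_point ((Over.pullback κ).obj Y).hom g hsurj y
  · have h1 : P ((Over.pullback (g i)).map f).left :=
      (P.arrow_mk_iso_iff (Arrow.isoMk ((Over.forget _).mapIso ((Over.pullbackComp (g i) κ).app X))
        ((Over.forget _).mapIso ((Over.pullbackComp (g i) κ).app Y))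
        (congrArg CommaMorphism.left ((Over.pullbackComp (g i) κ).hom.naturality u)).symm)).1 (h i)
    have sq : IsPullback (pullback.fst ((Over.pullback κ).obj X).hom (g i)) ((Over.pullback (g i)).map f).left f.left
        (pullback.fst ((Over.pullback κ).obj Y).hom (g i)) := by
      refine IsPullback.of_bot ?_ ?_ (IsPullback.of_hasPullback ((Over.pullback κ).obj Y).hom (g i))
      · have := IsPullback.of_hasPullback ((Over.pullback κ).obj X).hom (g i)
        rw [show ((Over.pullback (g i)).map f).left ≫ pullback.snd _ _ = pullback.snd _ _ from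
          Over.w ((Over.pullback (g i)).map f), show f.left ≫ ((Over.pullback κ).obj Y).hom = _ from Over.w f]
        exact this
      · simp only [Over.pullback_map_left]
        exact (pullback.lift_fst _ _ _).symm
    rw [← sq.isoPullback_hom_snd, P.cancel_left_of_respectsIso] at h1
    exact h1

/-- Insensitivity to flat surjective change of the base. -/
theorem comp_iff {P : MorphismProperty Scheme.{u}} [P.IsStableUnderBaseChange] (hP : Descends P) (u : X ⟶ Y)
    {T T' : Scheme.{u}} (κ : T ⟶ S) (g : T' ⟶ T) [Flat g] [Surjective g] :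
    P ((Over.pullback (g ≫ κ)).map u).left ↔ P ((Over.pullback κ).map u).left := by
  refine ⟨fun h => of_family hP u κ (I := PUnit) (fun _ => g) (fun _ => inferInstance)
    (fun t => ⟨PUnit.unit, g.surjective t⟩) (fun _ => h), fun h => ?_⟩
  refine (P.arrow_mk_iso_iff (Arrow.isoMk ((Over.forget _).mapIso ((Over.pullbackComp g κ).app X))
    ((Over.forget _).mapIso ((Over.pullbackComp g κ).app Y))
    (congrArg CommaMorphism.left ((Over.pullbackComp g κ).hom.naturality u)).symm)).2 ?_
  exact MorphismProperty.overPullbackMap g _ h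

/-- The property over a field valued point is the property on the fibre at its image. -/
theorem field_iff {P : MorphismProperty Scheme.{u}} [P.IsStableUnderBaseChange] (hP : Descends P) (u : X ⟶ Y)
    {F : Type u} [Field F] (κ : Spec (CommRingCat.of F) ⟶ S) :
    P ((Over.pullback κ).map u).left ↔
      P ((Over.pullback (S.fromSpecResidueField (κ (IsLocalRing.closedPoint F)))).map u).left := by
  obtain ⟨g, hg⟩ : ∃ g : Spec (CommRingCat.of F) ⟶ Spec (S.residueField (κ (IsLocalRing.closedPoint F))),
      g ≫ S.fromSpecResidueField (κ (IsLocalRing.closedPoint F)) = κ := by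
    exact ⟨Spec.map ((Scheme.SpecToEquivOfField F S) κ).2, (Scheme.SpecToEquivOfField F S).symm_apply_apply κ⟩
  haveI : Surjective g := ⟨fun t => ⟨IsLocalRing.closedPoint F, Subsingleton.elim _ _⟩⟩
  conv_lhs => rw [← hg]
  exact comp_iff hP u _ g

end Groth.Agent.MultHom
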