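import Mathlib

/-!
An injective map of abelian groups makes the target group algebra free over the source one.
-/

set_option autoImplicit false

noncomputable section

universe u

namespace Groth.Agent.MultHom

variable {R : Type u} [CommRing R] {N M : Type} [CommGroup N] [CommGroup M]

theorem faithfullyFlat_mapDomain (φ : N →* M) (hφ : Function.Injective φ) :
    (MonoidAlgebra.mapDomainAlgHom R R φ).toRingHom.FaithfullyFlat := by
  classical
  let θ := (MonoidAlgebra.mapDomainAlgHom R R φ).toRingHom
  letI := θ.toAlgebra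
  haveI : IsScalarTower R (MonoidAlgebra R N) (MonoidAlgebra R M) :=
    IsScalarTower.of_algebraMap_eq fun r => ((MonoidAlgebra.mapDomainAlgHom R R φ).commutes r).symm
  let Q := M ⧸ φ.range
  let s : Q → M := Quotient.out
  have hs : ∀ q, QuotientGroup.mk' φ.range (s q) = q := Quotient.out_eq
  let e : (Σ _ : Q, N) ≃ M := Equiv.ofBijective (fun z => φ z.2 * s z.1) ⟨by
      rintro ⟨q, n⟩ ⟨q', n'⟩ h
      have hn : ∀ k : N, QuotientGroup.mk' φ.range (φ k) = 1 := fun k =>
        (QuotientGroup.eq_one_iff _).2 ⟨k, rfl⟩
      have hq : q = q' := by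
        have := congrArg (QuotientGroup.mk' φ.range) h
        simpa only [map_mul, hn, one_mul, hs] using this
      subst hq
      obtain rfl := hφ (mul_right_cancel h)
      rfl, fun m => by
      obtain ⟨n, hn⟩ : m * (s (QuotientGroup.mk' φ.range m))⁻¹ ∈ φ.range := by
        refine (QuotientGroup.eq_one_iff _).1 ?_
        show QuotientGroup.mk' φ.range _ = 1
        rw [map_mul, map_inv, hs, mul_inv_cancel]
      exact ⟨⟨QuotientGroup.mk' φ.range m, n⟩, by simp only [hn, inv_mul_cancel_right]⟩⟩
  let L : (Q →₀ MonoidAlgebra R N) →ₗ[MonoidAlgebra R N] MonoidAlgebra R M :=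
    Finsupp.linearCombination _ fun q => MonoidAlgebra.single (s q) (1 : R)
  let b := Finsupp.basis (ι := Q) fun _ => MonoidAlgebra.basis N R
  have hL : L.restrictScalars R = (b.equiv (MonoidAlgebra.basis M R) e).toLinearMap := by
    refine b.ext fun z => ?_
    obtain ⟨q, n⟩ := z
    rw [LinearEquiv.coe_coe, Module.Basis.equiv_apply]
    simp [b, L, e, Finsupp.coe_basis, RingHom.smul_toAlgebra, Algebra.smul_def, RingHom.algebraMap_toAlgebra, θ,
      MonoidAlgebra.single_mul_single]
  haveI : Module.Free (MonoidAlgebra R N) (MonoidAlgebra R M) :=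
    Module.Free.of_basis (Module.Basis.ofRepr (LinearEquiv.ofBijective L (by
      have : (L : (Q →₀ MonoidAlgebra R N) → MonoidAlgebra R M) = b.equiv (MonoidAlgebra.basis M R) e :=
        congrArg DFunLike.coe hL
      rw [this]
      exact (b.equiv (MonoidAlgebra.basis M R) e).bijective)).symm)
  rcases subsingleton_or_nontrivial R with hR | hR
  · haveI : Subsingleton (MonoidAlgebra R N) := Module.subsingleton R _
    haveI : Module.FaithfullyFlat (MonoidAlgebra R N) (MonoidAlgebra R M) :=
      ⟨fun m hm => absurd (Subsingleton.elim m ⊤) hm.ne_top⟩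
    exact this
  · haveI : Nontrivial (MonoidAlgebra R M) := inferInstance
    exact inferInstanceAs (Module.FaithfullyFlat (MonoidAlgebra R N) (MonoidAlgebra R M))

end Groth.Agent.MultHom
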