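import Groth.Agent.MultHomLib.FinSplit
import Groth.Agent.MultEqLib.Props

/-!
The scheme of homomorphisms between finite groups of multiplicative type is finite etale.
-/

set_option autoImplicit false
set_option backward.isDefEq.respectTransparency false

noncomputable section

universe u

open CategoryTheory CategoryTheory.Limits MonoidalCategory CartesianMonoidalCategory AlgebraicGeometry CoactBr
open scoped MonObj

namespace Groth.Agent.MultHom

open Groth.Agent.FreeAct (DA)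

attribute [local instance] CoactBr.braidedAlgSpecOf

/-- Composition of coverings. -/
theorem hcov_comp {X Y Z : Scheme.{u}} (f : X ⟶ Y) (g : Y ⟶ Z)
    (hf : ∀ V : Y.Opens, IsAffineOpen V → ∃ W : X.Opens, IsCompact (W : Set X) ∧ f.base '' (W : Set X) = (V : Set Y))
    (hg : ∀ V : Z.Opens, IsAffineOpen V → ∃ W : Y.Opens, IsCompact (W : Set Y) ∧ g.base '' (W : Set Y) = (V : Set Z))
    (V : Z.Opens) (hV : IsAffineOpen V) :
    ∃ W : X.Opens, IsCompact (W : Set X) ∧ (f ≫ g).base '' (W : Set X) = (V : Set Z) := by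
  obtain ⟨W₁, hW₁, himg⟩ := hg V hV
  choose U hU hxU hUle using fun y : W₁ => exists_isAffineOpen_mem_and_subset (X := Y) (x := y.1) (U := W₁) y.2
  obtain ⟨s, hs⟩ := hW₁.elim_finite_subcover (fun y => (U y : Set Y)) (fun y => (U y).isOpen)
    (fun y hy => Set.mem_iUnion.2 ⟨⟨y, hy⟩, hxU ⟨y, hy⟩⟩)
  choose W hWc hWi using fun y => hf (U y) (hU y)
  refine ⟨⨆ y : s, W y.1, ?_, ?_⟩
  · rw [TopologicalSpace.Opens.coe_iSup]
    exact isCompact_iUnion fun y => hWc _
  · rw [TopologicalSpace.Opens.coe_iSup, Scheme.Hom.comp_base, TopCat.coe_comp, Set.image_comp,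
      Set.image_iUnion, ← himg]
    refine congrArg (g.base '' ·) (Set.Subset.antisymm ?_ ?_)
    · refine Set.iUnion_subset fun y => ?_
      rw [hWi]
      exact hUle y.1
    · intro y hy
      obtain ⟨i, hi, hyi⟩ := Set.mem_iUnion₂.1 (hs hy)
      exact Set.mem_iUnion.2 ⟨⟨i, hi⟩, (hWi i).symm ▸ hyi⟩

/-- A property satisfying fpqc descent can be checked on the pieces of a covering. -/
theorem prop_of_cover (P : MorphismProperty Scheme.{u}) [IsZariskiLocalAtTarget P]
    [P.IsStableUnderBaseChange] [P.DescendsAlong (@Surjective ⊓ @Flat ⊓ @QuasiCompact)]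
    {X S S' : Scheme.{u}} (a : X ⟶ S) (f : S' ⟶ S) [Flat f]
    (hcov : ∀ V : S.Opens, IsAffineOpen V → ∃ W : S'.Opens, IsCompact (W : Set S') ∧ f.base '' (W : Set S') = (V : Set S))
    (hloc : ∀ x : S', ∃ U : S'.Opens, x ∈ U ∧ P (pullback.snd a (U.ι ≫ f))) : P a := by
  refine (IsZariskiLocalAtTarget.iff_of_iSup_eq_top (fun V : S.affineOpens => (V : S.Opens))
    (iSup_affineOpens_eq_top S)).2 fun V => ?_
  obtain ⟨W, hW, hWV⟩ := hcov V V.2
  have hle : W ≤ f ⁻¹ᵁ (V : S.Opens) := fun x hx => by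
    show f.base x ∈ ((V : S.Opens) : Set S)
    rw [← hWV]
    exact ⟨x, hx, rfl⟩
  let g : (W : Scheme.{u}) ⟶ (V : S.Opens) := f.resLE V W hle
  haveI : Flat g := by
    haveI : Flat (g ≫ (V : S.Opens).ι) := by
      rw [Scheme.Hom.resLE_comp_ι]; infer_instance
    exact MorphismProperty.of_postcomp (W' := @IsOpenImmersion) @Flat g (V : S.Opens).ι inferInstance inferInstance
  haveI : Surjective g := ⟨fun v => by
    have hv : v.1 ∈ f.base '' (W : Set S') := by rw [hWV]; exact v.2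
    obtain ⟨x, hx, hxv⟩ := hv
    refine ⟨⟨x, hx⟩, Subtype.ext ?_⟩
    have := congrArg (fun m : (W : Scheme.{u}) ⟶ S => m.base ⟨x, hx⟩) (f.resLE_comp_ι hle)
    exact this.trans hxv⟩
  haveI : CompactSpace (W : Scheme.{u}) := isCompact_iff_compactSpace.1 hW
  haveI : IsAffine (V : S.Opens) := V.2
  haveI : QuasiCompact g := quasiCompact_iff_compactSpace g |>.2 inferInstance
  refine MorphismProperty.of_pullback_snd_of_descendsAlong (P := P)
    (Q := @Surjective ⊓ @Flat ⊓ @QuasiCompact) (f := a ∣_ (V : S.Opens)) (g := g)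
    ⟨⟨inferInstance, inferInstance⟩, inferInstance⟩ ?_
  suffices hb : P (pullback.snd a (W.ι ≫ f)) by
    have sq : IsPullback (pullback.fst (a ∣_ (V : S.Opens)) g ≫ (a ⁻¹ᵁ (V : S.Opens)).ι)
        (pullback.snd (a ∣_ (V : S.Opens)) g) a (W.ι ≫ f) := by
      rw [← f.resLE_comp_ι hle]
      exact (IsPullback.of_hasPullback _ _).paste_horiz (isPullback_morphismRestrict _ _).flip
    have := sq.isoPullback_hom_snd
    rw [← this]
    exact (P.cancel_left_of_respectsIso _ _).2 hb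
  choose U hxU hP using fun x : (W : Scheme.{u}) => hloc x.1
  refine (IsZariskiLocalAtTarget.iff_of_iSup_eq_top (fun x => W.ι ⁻¹ᵁ U x) (TopologicalSpace.Opens.ext ?_)).2 fun x => ?_
  · refine Set.eq_univ_of_forall fun y => ?_
    simp only [TopologicalSpace.Opens.coe_iSup, Set.mem_iUnion]
    exact ⟨y, hxU y⟩
  let r : ((W.ι ⁻¹ᵁ U x : (W : Scheme.{u}).Opens) : Scheme.{u}) ⟶ U x := W.ι.resLE (U x) _ le_rfl
  have h3 : P (pullback.snd a (r ≫ (U x).ι ≫ f)) := by
    rw [← pullbackLeftPullbackSndIso_hom_snd a ((U x).ι ≫ f) r |> fun e => (Iso.inv_comp_eq _).2 e.symm]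
    exact (P.cancel_left_of_respectsIso _ _).2 (MorphismProperty.pullback_snd _ _ (hP x))
  have he : r ≫ (U x).ι ≫ f = (W.ι ⁻¹ᵁ U x).ι ≫ W.ι ≫ f := W.ι.resLE_comp_ι_assoc le_rfl f
  have sq : IsPullback ((pullback.snd a (W.ι ≫ f) ⁻¹ᵁ (W.ι ⁻¹ᵁ U x)).ι ≫ pullback.fst a (W.ι ≫ f))
      (pullback.snd a (W.ι ≫ f) ∣_ (W.ι ⁻¹ᵁ U x)) a ((W.ι ⁻¹ᵁ U x).ι ≫ W.ι ≫ f) :=
    (isPullback_morphismRestrict _ _).flip.paste_horiz (IsPullback.of_hasPullback _ _)
  rw [← he] at sq
  rw [← sq.isoPullback_hom_snd]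
  exact (P.cancel_left_of_respectsIso _ _).2 h3

theorem finite_of_isFinite {S : Scheme.{u}} {G : Over S} [GrpObj G] [IsFinite G.hom] {R : Type u} [CommRing R]
    [Nontrivial R] {M : Type} [AddCommGroup M] (p : Spec (CommRingCat.of R) ⟶ S)
    (w : sp R (DA R M) ≅ Red.bc p G) : Finite M := by
  have h : (algebraMap R (DA R M)).Finite :=
    (IsFinite.SpecMap_iff _).1 (MorphismProperty.of_isPullback (P := @IsFinite) (isPullback_gch p w) inferInstance)
  haveI : Module.Finite R (DA R M) := RingHom.finite_algebraMap.1 h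
  haveI : Finite (Multiplicative M) := Module.Finite.finite_basis (MonoidAlgebra.basis (Multiplicative M) R)
  exact Finite.of_equiv _ Multiplicative.toAdd

variable {S : Scheme.{u}} (G H : Over S) [GrpObj G] [GrpObj H]

theorem exists_representsHom_finite (hG : SGA3x.IsMultTypeFT G) [IsFinite G.hom] (hH : SGA3x.IsMultTypeFT H)
    [IsFinite H.hom] [Flat G.hom] [LocallyOfFinitePresentation G.hom] :
    ∃ (A : Over S) (υ : G ⊗ A ⟶ H), AutFam.RepresentsHom G H A υ ∧ IsFinite A.hom ∧ Etale A.hom := by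
  obtain ⟨A, υ, hrep, haff, hft, -⟩ := FinHom.exists_representsHom G H
  haveI := haff
  obtain ⟨S₁, f₁, hflat₁, hsurj₁, hcov₁, hloc₁⟩ := id hG
  obtain ⟨S₂, f₂, hflat₂, hsurj₂, hcov₂, hloc₂⟩ := id hH
  haveI := hflat₁
  haveI := hsurj₁
  haveI := hflat₂
  haveI := hsurj₂
  let f := pullback.fst f₁ f₂ ≫ f₁
  have hcov := hcov_comp (pullback.fst f₁ f₂) f₁ (DescHom.hcov_pullback_snd f₂ f₁ hcov₂) hcov₁
  have hpiece : ∀ x : ↥(pullback f₁ f₂), ∃ U : (pullback f₁ f₂).Opens, x ∈ U ∧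
      IsFinite (pullback.snd A.hom (U.ι ≫ f)) ∧ Etale (pullback.snd A.hom (U.ι ≫ f)) := by
    intro x
    obtain ⟨U₁, hxU₁, M, _, -, ⟨e₁⟩⟩ := hloc₁ (pullback.fst f₁ f₂ x)
    obtain ⟨U₂, hxU₂, M', _, -, ⟨e₂⟩⟩ := hloc₂ (pullback.snd f₁ f₂ x)
    obtain ⟨T, hT, hxT, hTU⟩ := exists_isAffineOpen_mem_and_subset (X := pullback f₁ f₂) (x := x)
      (U := pullback.fst f₁ f₂ ⁻¹ᵁ U₁ ⊓ pullback.snd f₁ f₂ ⁻¹ᵁ U₂) ⟨hxU₁, hxU₂⟩
    haveI : IsAffine (T : Scheme.{u}) := hT
    let R : Type u := Γ((T : Scheme.{u}), ⊤)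
    let j : Spec (CommRingCat.of R) ⟶ (T : Scheme.{u}) := (T : Scheme.{u}).isoSpec.inv
    let p : Spec (CommRingCat.of R) ⟶ S := j ≫ T.ι ≫ f
    obtain ⟨w, hw⟩ := MultLift.exists_split_iso e₁
      (j ≫ (pullback.fst f₁ f₂).resLE U₁ T (hTU.trans inf_le_left)) p (by
        rw [Category.assoc, Scheme.Hom.resLE_comp_ι_assoc])
    obtain ⟨w', hw'⟩ := MultLift.exists_split_iso e₂
      (j ≫ (pullback.snd f₁ f₂).resLE U₂ T (hTU.trans inf_le_right)) p (by
        rw [Category.assoc, Scheme.Hom.resLE_comp_ι_assoc, ← pullback.condition])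
    haveI := hw
    haveI := hw'
    haveI : Nontrivial R := by
      obtain ⟨a, -⟩ := (T : Scheme.{u}).isoSpec.inv.surjective ⟨x, hxT⟩
      exact PrimeSpectrum.nontrivial (a : PrimeSpectrum R)
    haveI := finite_of_isFinite p w
    haveI := finite_of_isFinite p w'
    letI := Fintype.ofFinite M
    letI := Fintype.ofFinite M'
    obtain ⟨W, _, _, c, hc⟩ := FinHom.exists_chart p A
    obtain ⟨e⟩ := exists_algEquiv p w w' υ hc hrep
    haveI : Finite (Multiplicative M' →* Multiplicative M) := Finite.of_injective _ DFunLike.coe_injective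
    haveI : Module.Finite R W := Module.Finite.equiv e.symm.toLinearEquiv
    haveI : Algebra.Etale R W := Algebra.Etale.of_equiv e.symm
    have key : ∀ (P : MorphismProperty Scheme.{u}) [P.RespectsIso],
        P (Spec.map (CommRingCat.ofHom (algebraMap R W))) → P (pullback.snd A.hom (T.ι ≫ f)) := by
      intro P _ hP
      rw [← hc.isoPullback_hom_snd, P.cancel_left_of_respectsIso] at hP
      refine (P.arrow_mk_iso_iff (Arrow.isoMk (asIso (pullback.map A.hom p A.hom (T.ι ≫ f) (𝟙 _) j (𝟙 _)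
        (by simp) (by simp [p]))) (asIso j) ?_)).1 hP
      simp
    refine ⟨T, hxT, key @IsFinite ((IsFinite.SpecMap_iff _).2 (RingHom.finite_algebraMap.2 inferInstance)),
      key @Etale ((HasRingHomProperty.Spec_iff (P := @Etale)).2 (RingHom.etale_algebraMap.2 inferInstance))⟩
  haveI : LocallyOfFiniteType A.hom := hft inferInstance
  haveI : UniversallyClosed A.hom := prop_of_cover @UniversallyClosed A.hom f hcov fun x => by
    obtain ⟨U, hx, hfin, -⟩ := hpiece x
    exact ⟨U, hx, inferInstance⟩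
  haveI : IsProper A.hom := {}
  exact ⟨A, υ, hrep, IsFinite.iff_isProper_and_isAffineHom.2 ⟨inferInstance, inferInstance⟩,
    prop_of_cover @Etale A.hom f hcov fun x => by
      obtain ⟨U, hx, -, het⟩ := hpiece x
      exact ⟨U, hx, het⟩⟩

end Groth.Agent.MultHom
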