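import Groth.Agent.MultHomLib.Desc
import Groth.Agent.MultEqLib.Global

/-!
The loci of monomorphy and of faithful flatness of a homomorphism of groups of multiplicative type are clopen.
-/

set_option autoImplicit false

noncomputable section

universe u

open CategoryTheory CategoryTheory.Limits MonoidalCategory CartesianMonoidalCategory AlgebraicGeometry CoactBr
open scoped MonObj

namespace Groth.Agent.MultHom

open Groth.Agent.FreeAct (DA)

attribute [local instance] CoactBr.braidedAlgSpecOf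

variable {S : Scheme.{u}} {G H : Over S} [GrpObj G] [GrpObj H]

/-- Fpqc-locally diagonalisable, of arbitrary type. -/
def LocDiag (G : Over S) [GrpObj G] : Prop :=
  ∃ (S' : Scheme.{u}) (f : S' ⟶ S), Flat f ∧ Surjective f ∧
    (∀ V : S.Opens, IsAffineOpen V → ∃ W : S'.Opens, IsCompact (W : Set S') ∧ f.base '' (W : Set S') = (V : Set S)) ∧
    ∀ s' : S', ∃ U : S'.Opens, s' ∈ U ∧ ∃ (M : Type) (_ : AddCommGroup M),
      Nonempty (Grp.mk (Red.bc (U.ι ≫ f) G) ≅ Grp.mk (Red.DS (U : Scheme.{u}) M))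

theorem locDiag_of_isMultTypeFT (h : SGA3x.IsMultTypeFT G) : LocDiag G := by
  obtain ⟨S', f, h1, h2, h3, h4⟩ := h
  refine ⟨S', f, h1, h2, h3, fun s' => ?_⟩
  obtain ⟨U, hU, M, _, -, hiso⟩ := h4 s'
  exact ⟨U, hU, M, _, hiso⟩

/-- The property is decided on the map of character groups. -/
def Decided (P : MorphismProperty Scheme.{u}) : Prop :=
  ∀ {R : Type u} [CommRing R] {M M' : Type} [AddCommGroup M] [AddCommGroup M']
    (φ : Multiplicative M' →* Multiplicative M) (F : Type u) [Field F] [Algebra R F],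
    P ((Over.pullback (Spec.map (CommRingCat.ofHom (algebraMap R F)))).map (dpt φ)).left →
      P (dpt (R := R) φ).left

theorem decided_mono : Decided (MorphismProperty.monomorphisms Scheme.{u}) := by
  intro R _ M M' _ _ φ F _ _ h
  haveI := isClosedImmersion_dpt (R := R) (surjective_of_mono h)
  exact inferInstanceAs (Mono _)

theorem decided_fs : Decided FS.{u} := fun _ _ _ _ h => fs_dpt (injective_of_fs h)

variable (u : G ⟶ H) [IsMonHom u]

/-- The fibrewise locus. -/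
def locus (P : MorphismProperty Scheme.{u}) : Set S :=
  {s | P ((Over.pullback (S.fromSpecResidueField s)).map u).left}

theorem exists_piece {P : MorphismProperty Scheme.{u}} [P.IsStableUnderBaseChange] (hP : Descends P) (hdec : Decided P)
    {R : Type u} [CommRing R] {M M' : Type} [AddCommGroup M] [AddCommGroup M'] [AddGroup.FG M']
    (p : Spec (CommRingCat.of R) ⟶ S) (w : sp R (DA R M) ≅ Red.bc p G) (w' : sp R (DA R M') ≅ Red.bc p H)
    [IsMonHom w.hom] [IsMonHom w'.hom] (t₀ : Spec (CommRingCat.of R)) :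
    ∃ O : (Spec (CommRingCat.of R)).Opens, t₀ ∈ O ∧ ((∀ t ∈ O, p t ∈ locus u P) ∧
      P ((Over.pullback (O.ι ≫ p)).map u).left ∨ ∀ t ∈ O, p t ∉ locus u P) := by
  obtain ⟨r, hr, φ, hφ⟩ := exists_isChar p w w' u (t₀ : PrimeSpectrum R)
  let O : (Spec (CommRingCat.of R)).Opens := PrimeSpectrum.basicOpen r
  refine ⟨O, hr, ?_⟩
  have hfib : ∀ t : Spec (CommRingCat.of R), t ∈ O → (p t ∈ locus u P ↔
      P ((Over.pullback (Spec.map (CommRingCat.ofHom
        (algebraMap R (PrimeSpectrum.asIdeal t).ResidueField)))).map (dpt φ)).left) := by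
    intro t ht
    let q : PrimeSpectrum R := t
    let F := q.asIdeal.ResidueField
    let κ := Spec.map (CommRingCat.ofHom (algebraMap R F))
    have hκ : ∀ x, κ x = t := fun x => by
      rw [Subsingleton.elim x (IsLocalRing.closedPoint F)]
      refine PrimeSpectrum.ext ?_
      show Ideal.comap (algebraMap R F) (IsLocalRing.maximalIdeal F) = q.asIdeal
      rw [IsLocalRing.isField_iff_maximalIdeal_eq.1 (Field.toIsField F)]
      exact Ideal.ker_algebraMap_residueField _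
    have h1 := prop_iff p w w' P hφ κ fun x => by
      rw [hκ]; exact ht
    rw [field_iff hP, show (κ ≫ p) (IsLocalRing.closedPoint F) = p t by rw [Scheme.Hom.comp_apply, hκ]] at h1
    exact h1
  by_cases hex : ∃ t, t ∈ O ∧ p t ∈ locus u P
  · obtain ⟨t, ht, hmem⟩ := hex
    have hd : P (dpt (R := R) φ).left := hdec φ _ ((hfib t ht).1 hmem)
    refine Or.inl ⟨fun t' ht' => (hfib t' ht').2 (MorphismProperty.overPullbackMap _ _ hd), ?_⟩
    exact (prop_iff p w w' P hφ O.ι fun x => x.2).2 (MorphismProperty.overPullbackMap _ _ hd)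
  · exact Or.inr fun t ht h => hex ⟨t, ht, h⟩

/-- The fibrewise locus is clopen and the property holds over it. -/
theorem exists_locus {P : MorphismProperty Scheme.{u}} [P.IsStableUnderBaseChange] (hP : Descends P) (hdec : Decided P)
    (hG : LocDiag G) (hH : SGA3x.IsMultTypeFT H) :
    ∃ U : S.Opens, IsClosed (U : Set S) ∧ (∀ s, s ∈ U ↔ s ∈ locus u P) ∧ P ((Over.pullback U.ι).map u).left := by
  obtain ⟨S₁, f₁, hflat₁, hsurj₁, hcov₁, hloc₁⟩ := id hG
  obtain ⟨S₂, f₂, hflat₂, hsurj₂, hcov₂, hloc₂⟩ := id hH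
  haveI := hflat₁
  haveI := hsurj₁
  haveI := hflat₂
  haveI := hsurj₂
  let W₀ : Set S := locus u P
  let f := pullback.fst f₁ f₂ ≫ f₁
  have hpiece : ∀ x : ↥(pullback f₁ f₂), ∃ (R : Type u) (_ : CommRing R) (ι' : Spec (CommRingCat.of R) ⟶ pullback f₁ f₂)
      (O : (Spec (CommRingCat.of R)).Opens), IsOpenImmersion ι' ∧ (∃ a ∈ O, ι' a = x) ∧
      ((∀ t ∈ O, f (ι' t) ∈ W₀) ∧ P ((Over.pullback (O.ι ≫ ι' ≫ f)).map u).left ∨ ∀ t ∈ O, f (ι' t) ∉ W₀) := by
    intro x
    obtain ⟨U₁, hxU₁, M, _, ⟨e₁⟩⟩ := hloc₁ (pullback.fst f₁ f₂ x)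
    obtain ⟨U₂, hxU₂, M', _, hM', ⟨e₂⟩⟩ := hloc₂ (pullback.snd f₁ f₂ x)
    haveI := hM'
    obtain ⟨T, hT, hxT, hTU⟩ := exists_isAffineOpen_mem_and_subset (X := pullback f₁ f₂) (x := x)
      (U := pullback.fst f₁ f₂ ⁻¹ᵁ U₁ ⊓ pullback.snd f₁ f₂ ⁻¹ᵁ U₂) ⟨hxU₁, hxU₂⟩
    haveI : IsAffine (T : Scheme.{u}) := hT
    let j : Spec (CommRingCat.of Γ((T : Scheme.{u}), ⊤)) ⟶ (T : Scheme.{u}) := (T : Scheme.{u}).isoSpec.inv
    obtain ⟨w, hw⟩ := MultLift.exists_split_iso e₁
      (j ≫ (pullback.fst f₁ f₂).resLE U₁ T (hTU.trans inf_le_left)) (j ≫ T.ι ≫ f) (by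
        rw [Category.assoc, Scheme.Hom.resLE_comp_ι_assoc])
    obtain ⟨w', hw'⟩ := MultLift.exists_split_iso e₂
      (j ≫ (pullback.snd f₁ f₂).resLE U₂ T (hTU.trans inf_le_right)) (j ≫ T.ι ≫ f) (by
        rw [Category.assoc, Scheme.Hom.resLE_comp_ι_assoc, ← pullback.condition])
    haveI := hw
    haveI := hw'
    obtain ⟨a, ha⟩ := (T : Scheme.{u}).isoSpec.inv.surjective ⟨x, hxT⟩
    obtain ⟨O, haO, hor⟩ := exists_piece u hP hdec (j ≫ T.ι ≫ f) w w' a
    refine ⟨_, inferInstance, j ≫ T.ι, O, ?_, ⟨a, haO, ?_⟩, ?_⟩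
    · show IsOpenImmersion ((T : Scheme.{u}).isoSpec.inv ≫ T.ι)
      infer_instance
    · show ((T : Scheme.{u}).isoSpec.inv ≫ T.ι) a = x
      rw [Scheme.Hom.comp_apply, ha]
      rfl
    · rw [Category.assoc]
      exact hor
  choose R _ ι' O hopen hmem hor using hpiece
  have hclop : IsClopen (f ⁻¹' W₀) := by
    have hkey : ∀ x, ∃ V : Set ↥(pullback f₁ f₂), IsOpen V ∧ x ∈ V ∧ ((V ⊆ f ⁻¹' W₀) ∨ (V ⊆ (f ⁻¹' W₀)ᶜ)) := by
      intro x
      haveI := hopen x
      obtain ⟨a, haO, ha⟩ := hmem x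
      refine ⟨ι' x '' (O x : Set _), (ι' x).isOpenEmbedding.isOpenMap _ (O x).isOpen, ⟨a, haO, ha⟩, ?_⟩
      rcases hor x with ⟨h, -⟩ | h
      · exact Or.inl (by rintro _ ⟨b, hb, rfl⟩; exact h b hb)
      · exact Or.inr (by rintro _ ⟨b, hb, rfl⟩; exact h b hb)
    refine ⟨isOpen_compl_iff.1 (isOpen_iff_forall_mem_open.2 fun y hy => ?_),
      isOpen_iff_forall_mem_open.2 fun y hy => ?_⟩
    · obtain ⟨V, hV, hyV, h | h⟩ := hkey y
      · exact absurd (h hyV) hy
      · exact ⟨V, h, hV, hyV⟩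
    · obtain ⟨V, hV, hyV, h | h⟩ := hkey y
      · exact ⟨V, h, hV, hyV⟩
      · exact absurd hy (h hyV)
  have hW₁ : IsClopen (f₁ ⁻¹' W₀) :=
    TrivLocus.isClopen_of_preimage (pullback.fst f₁ f₂) (DescHom.hcov_pullback_snd f₂ f₁ hcov₂) hclop
  have hW₀ : IsClopen W₀ := TrivLocus.isClopen_of_preimage f₁ hcov₁ hW₁
  let U : S.Opens := ⟨W₀, hW₀.isOpen⟩
  refine ⟨U, hW₀.isClosed, fun s => Iff.rfl, ?_⟩
  let X' := {x : ↥(pullback f₁ f₂) // f x ∈ W₀}
  have hin : ∀ x : X', (∀ t ∈ O x.1, f (ι' x.1 t) ∈ W₀) ∧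
      P ((Over.pullback ((O x.1).ι ≫ ι' x.1 ≫ f)).map u).left := fun x => by
    refine (hor x.1).resolve_right fun h => ?_
    obtain ⟨a, haO, ha⟩ := hmem x.1
    exact h a haO (by rw [ha]; exact x.2)
  have hl : ∀ x : X', ∃ l : (O x.1 : Scheme.{u}) ⟶ (U : Scheme.{u}), l ≫ U.ι = (O x.1).ι ≫ ι' x.1 ≫ f := fun x =>
    ⟨IsOpenImmersion.lift U.ι ((O x.1).ι ≫ ι' x.1 ≫ f) (by
      rintro _ ⟨b, rfl⟩
      rw [Scheme.Opens.range_ι]
      exact (hin x).1 _ b.2), IsOpenImmersion.lift_fac _ _ _⟩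
  choose l hl using hl
  refine of_family hP u U.ι l (fun x => ?_) (fun t => ?_) fun x => by rw [hl]; exact (hin x).2
  · haveI := hopen x.1
    haveI : Flat (l x ≫ U.ι) := by rw [hl]; infer_instance
    exact MorphismProperty.of_postcomp (W' := @IsOpenImmersion) @Flat (l x) U.ι inferInstance inferInstance
  · obtain ⟨z, hz⟩ := (pullback.fst f₁ f₂ ≫ f₁).surjective (U.ι t)
    obtain ⟨a, haO, ha⟩ := hmem z
    have hzW : f z ∈ W₀ := by
      rw [show f z = U.ι t from hz]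
      exact t.2
    refine ⟨⟨z, hzW⟩, (⟨a, haO⟩ : (O z : Scheme.{u})), U.ι.isOpenEmbedding.injective ?_⟩
    rw [← Scheme.Hom.comp_apply, hl]
    show f (ι' z a) = _
    rw [ha]
    exact hz

omit [IsMonHom u] in
theorem quasiCompact_map [IsAffineHom G.hom] [IsSeparated H.hom] {T : Scheme.{u}} (κ : T ⟶ S) :
    QuasiCompact ((Over.pullback κ).map u).left := by
  haveI : QuasiCompact (((Over.pullback κ).map u).left ≫ ((Over.pullback κ).obj H).hom) := by
    rw [Over.w]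
    exact inferInstanceAs (QuasiCompact (pullback.snd G.hom κ))
  haveI : IsSeparated ((Over.pullback κ).obj H).hom := inferInstanceAs (IsSeparated (pullback.snd H.hom κ))
  exact QuasiCompact.of_comp _ ((Over.pullback κ).obj H).hom

end Groth.Agent.MultHom
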