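import Groth.Agent.MultHomLib.Char
import Groth.Agent.MultHomLib.Free

/-!
Properties of a homomorphism of diagonalisable groups read on the map of character groups.
-/

set_option autoImplicit false
set_option backward.isDefEq.respectTransparency false

noncomputable section

universe u

open CategoryTheory CategoryTheory.Limits MonoidalCategory CartesianMonoidalCategory AlgebraicGeometry CoactBr
open scoped MonObj TensorProduct

namespace Groth.Agent.MultHom

open Groth.Agent.FreeAct (DA chr)
open Groth.Agent.MonoLocus (hpt hpt_surjective homEquiv_hpt)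
open Groth.Agent.MultEq (gHom hpt_gHom)

attribute [local instance] CoactBr.braidedAlgSpecOf

/-- Flat and surjective. -/
def FS : MorphismProperty Scheme.{u} := @Flat ⊓ @Surjective

instance : (FS.{u}).IsStableUnderBaseChange := inferInstanceAs (MorphismProperty.IsStableUnderBaseChange (_ ⊓ _))

instance : (FS.{u}).RespectsIso := MorphismProperty.IsStableUnderBaseChange.respectsIso

variable {R : Type u} [CommRing R] {M M' : Type} [AddCommGroup M] [AddCommGroup M']

/-- The homomorphism of diagonalisable groups given by a map of character groups. -/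
def dpt (φ : Multiplicative M' →* Multiplicative M) : sp R (DA R M) ⟶ sp R (DA R M') :=
  pt (chr (R := R) (DA R M) ((MonoidAlgebra.of R (Multiplicative M)).comp φ))

theorem chr_of (φ : Multiplicative M' →* Multiplicative M) :
    chr (R := R) (DA R M) ((MonoidAlgebra.of R (Multiplicative M)).comp φ) =
      MonoidAlgebra.mapDomainAlgHom R R φ :=
  AlgHom.toLinearMap_injective ((MonoidAlgebra.basis (Multiplicative M') R).ext fun m => by simp [chr])

theorem dpt_left (φ : Multiplicative M' →* Multiplicative M) :
    (dpt (R := R) φ).left = Spec.map (CommRingCat.ofHom (MonoidAlgebra.mapDomainAlgHom R R φ).toRingHom) := by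
  rw [dpt, pt_left, chr_of]

theorem pt_chr_dpt (φ : Multiplicative M' →* Multiplicative M) {A : Type u} [CommRing A] [Algebra R A]
    (χ : Multiplicative M →* A) : pt (chr (R := R) A χ) ≫ dpt φ = pt (chr (R := R) A (χ.comp φ)) := by
  rw [dpt, ← pt_comp]
  exact congrArg pt (AlgHom.toLinearMap_injective
    ((MonoidAlgebra.basis (Multiplicative M') R).ext fun m => by simp [chr]))

theorem isClosedImmersion_dpt {φ : Multiplicative M' →* Multiplicative M} (hφ : Function.Surjective φ) :
    IsClosedImmersion (dpt (R := R) φ).left := by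
  rw [dpt_left]
  exact IsClosedImmersion.spec_of_surjective _ (fun b => by
    induction b using MonoidAlgebra.induction_linear with
    | zero => exact ⟨0, map_zero _⟩
    | add x y hx hy => obtain ⟨a, rfl⟩ := hx; obtain ⟨c, rfl⟩ := hy; exact ⟨a + c, map_add _ _ _⟩
    | single m r => obtain ⟨n, rfl⟩ := hφ m; exact ⟨MonoidAlgebra.single n r, by simp⟩)

theorem fs_dpt {φ : Multiplicative M' →* Multiplicative M} (hφ : Function.Injective φ) :
    FS (dpt (R := R) φ).left := by
  rw [dpt_left]
  have h := faithfullyFlat_mapDomain (R := R) φ hφ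
  rw [RingHom.FaithfullyFlat.iff_flat_and_comap_surjective] at h
  exact ⟨(Flat.SpecMap_iff).2 h.1, ⟨h.2⟩⟩

section Field

variable {F : Type u} [Field F] [Algebra R F]

/-- Points of the fibre over `F`. -/
def fpt {A : Type u} [CommRing A] [Algebra R A] [Algebra F A] [IsScalarTower R F A]
    (χ : Multiplicative M →* A) :
    Spec (CommRingCat.of A) ⟶
      pullback (sp R (DA R M)).hom (Spec.map (CommRingCat.ofHom (algebraMap R F))) :=
  pullback.lift (pt (chr (R := R) A χ)).left (Spec.map (CommRingCat.ofHom (algebraMap F A))) (by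
    rw [← Spec.map_comp, ← CommRingCat.ofHom_comp, ← IsScalarTower.algebraMap_eq]
    exact Over.w (pt (chr (R := R) A χ)))

theorem surjective_of_mono {φ : Multiplicative M' →* Multiplicative M}
    (h : Mono ((Over.pullback (Spec.map (CommRingCat.ofHom (algebraMap R F)))).map (dpt φ)).left) :
    Function.Surjective φ := by
  let A : Type u := MonoidAlgebra F (Multiplicative M ⧸ φ.range)
  let χ : Multiplicative M →* A := (MonoidAlgebra.of F _).comp (QuotientGroup.mk' φ.range)
  have hχ : χ.comp φ = (1 : Multiplicative M →* A).comp φ := MonoidHom.ext fun m => by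
    show MonoidAlgebra.of F _ (QuotientGroup.mk' φ.range (φ m)) = 1
    rw [show QuotientGroup.mk' φ.range (φ m) = 1 from (QuotientGroup.eq_one_iff _).2 ⟨m, rfl⟩, map_one]
  have h1 : fpt (R := R) (F := F) χ = fpt (R := R) (F := F) 1 := by
    apply h.right_cancellation
    refine pullback.hom_ext ?_ ?_
    · simp only [fpt, Over.pullback_map_left, Category.assoc, pullback.lift_fst, pullback.lift_fst_assoc]
      rw [← Over.comp_left, ← Over.comp_left, pt_chr_dpt, pt_chr_dpt, hχ]
    · simp [fpt, Over.pullback_map_left]
  have h2 : pt (chr (R := R) A χ) = pt (chr (R := R) A 1) := by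
    refine Over.OverMorphism.ext ?_
    have := congrArg (· ≫ pullback.fst _ _) h1
    simpa [fpt] using this
  intro m
  have h3 := DFunLike.congr_fun (pt_injective h2) (MonoidAlgebra.single m 1)
  simp only [chr, MonoidAlgebra.lift_single, one_smul, MonoidHom.one_apply] at h3
  have h4 : MonoidAlgebra.of F (Multiplicative M ⧸ φ.range) (QuotientGroup.mk' φ.range m) =
      MonoidAlgebra.of F _ 1 := h3.trans (map_one _).symm
  exact (QuotientGroup.eq_one_iff m).1 (MonoidAlgebra.of_injective h4)

theorem injective_of_fs {φ : Multiplicative M' →* Multiplicative M}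
    (h : FS ((Over.pullback (Spec.map (CommRingCat.ofHom (algebraMap R F)))).map (dpt φ)).left) :
    Function.Injective φ := by
  obtain ⟨hfl, hsu⟩ := h
  haveI := hfl
  haveI := hsu
  refine (injective_iff_map_eq_one φ).2 fun k hk => ?_
  let A : Type u := MonoidAlgebra F (Multiplicative M')
  let a := (Polynomial.aeval (R := R) (MonoidAlgebra.single k (1 : R) : DA R M')).toRingHom
  let b := (Polynomial.aeval (R := R) (1 : DA R M')).toRingHom
  have hab : (MonoidAlgebra.mapDomainAlgHom R R φ).toRingHom.comp a =
      (MonoidAlgebra.mapDomainAlgHom R R φ).toRingHom.comp b :=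
    Polynomial.ringHom_ext (fun r => by simp [a, b]) (by simp [a, b, hk, MonoidAlgebra.one_def])
  haveI := Flat.epi_of_flat_of_surjective
    ((Over.pullback (Spec.map (CommRingCat.ofHom (algebraMap R F)))).map (dpt (R := R) φ)).left
  have h1 : pullback.fst (sp R (DA R M')).hom (Spec.map (CommRingCat.ofHom (algebraMap R F))) ≫
      Spec.map (CommRingCat.ofHom a) = pullback.fst _ _ ≫ Spec.map (CommRingCat.ofHom b) := by
    rw [← cancel_epi ((Over.pullback (Spec.map (CommRingCat.ofHom (algebraMap R F)))).map (dpt (R := R) φ)).left]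
    simp only [Over.pullback_map_left, pullback.lift_fst_assoc, Category.assoc, dpt_left]
    rw [← Spec.map_comp, ← Spec.map_comp, ← CommRingCat.ofHom_comp, ← CommRingCat.ofHom_comp, hab]
  have h2 := congrArg (fpt (R := R) (F := F) (MonoidAlgebra.of F (Multiplicative M')) ≫ ·) h1
  simp only [fpt, pullback.lift_fst_assoc, pt_left, ← Spec.map_comp, ← CommRingCat.ofHom_comp] at h2
  have h3 := RingHom.congr_fun (CommRingCat.hom_ext_iff.1 (Spec.map_injective h2)) Polynomial.X
  simp [a, b, chr] at h3
  exact MonoidAlgebra.of_injective (h3.trans (map_one _).symm)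

end Field

variable {S : Scheme.{u}} {G H : Over S} [GrpObj G] [GrpObj H] (p : Spec (CommRingCat.of R) ⟶ S)
  (w : sp R (DA R M) ≅ Red.bc p G) (w' : sp R (DA R M') ≅ Red.bc p H)

/-- Where `r` is invertible the two morphisms agree. -/
theorem map_gHom [IsMonHom w.hom] [IsMonHom w'.hom] {u : G ⟶ H} {r : R}
    {φ : Multiplicative M' →* Multiplicative M} (hφ : IsChar p w w' u r φ) {T : Scheme.{u}}
    (κ : T ⟶ Spec (CommRingCat.of R)) (hκ : ∀ x, r ∉ (κ x).asIdeal) :
    (Over.pullback κ).map (gHom p w w' φ) = (Over.pullback κ).map ((Over.pullback p).map u) := by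
  let adj := Over.mapPullbackAdj p
  refine Over.OverMorphism.ext (pullback.hom_ext ?_ ?_)
  · simp only [Over.pullback_map_left, pullback.lift_fst]
    refine (pullback (Red.bc p G).hom κ).affineOpenCover.openCover.hom_ext _ _ fun j => ?_
    let A : Type u := (pullback (Red.bc p G).hom κ).affineOpenCover.X j
    let f : Spec (CommRingCat.of A) ⟶ pullback (Red.bc p G).hom κ :=
      (pullback (Red.bc p G).hom κ).affineOpenCover.f j
    obtain ⟨a, ha⟩ := Spec.map_surjective (f ≫ pullback.snd _ _ ≫ κ)
    letI : Algebra R A := a.hom.toAlgebra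
    let e : sp R A ⟶ Red.bc p G := Over.homMk (f ≫ pullback.fst _ _) (by
      rw [Category.assoc, pullback.condition, ← ha]
      rfl)
    have hu : IsUnit (algebraMap R A r) := by
      by_contra hne
      obtain ⟨P, hP, hmem⟩ := exists_max_ideal_of_mem_nonunits hne
      let x : Spec (CommRingCat.of A) := (⟨P, hP.isPrime⟩ : PrimeSpectrum A)
      refine hκ ((f ≫ pullback.snd _ _) x) ?_
      rw [← Scheme.Hom.comp_apply, Category.assoc, ← ha]
      exact hmem
    obtain ⟨χ, hχ⟩ := hpt_surjective p w ((adj.homEquiv (sp R A) G).symm e)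
    have he : e = adj.homEquiv (sp R A) G (hpt p w χ) := by rw [← hχ, Equiv.apply_symm_apply]
    have h1 : e ≫ gHom p w w' φ = e ≫ (Over.pullback p).map u := by
      rw [he, hpt_gHom, ← adj.homEquiv_naturality_right, hφ A hu χ]
    have := congrArg CommaMorphism.left h1
    exact (Category.assoc _ _ _).symm.trans (this.trans (Category.assoc _ _ _))
  · simp [Over.pullback_map_left]

/-- A property of `u` over a base factoring through the piece, read on the map of character groups. -/
theorem prop_iff [IsMonHom w.hom] [IsMonHom w'.hom] (P : MorphismProperty Scheme.{u}) [P.RespectsIso] {u : G ⟶ H}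
    {r : R} {φ : Multiplicative M' →* Multiplicative M} (hφ : IsChar p w w' u r φ) {T : Scheme.{u}}
    (κ : T ⟶ Spec (CommRingCat.of R)) (hκ : ∀ x, r ∉ (κ x).asIdeal) :
    P ((Over.pullback (κ ≫ p)).map u).left ↔ P ((Over.pullback κ).map (dpt φ)).left := by
  let F := Over.pullback κ
  let e := fun X => (Over.forget T).mapIso ((Over.pullbackComp κ p).app X)
  have h1 : P ((Over.pullback (κ ≫ p)).map u).left ↔ P (F.map ((Over.pullback p).map u)).left :=
    P.arrow_mk_iso_iff (Arrow.isoMk (e G) (e H)
      (congrArg CommaMorphism.left ((Over.pullbackComp κ p).hom.naturality u)).symm)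
  have h2 : P (F.map (gHom p w w' φ)).left ↔ P (F.map (dpt φ)).left :=
    P.arrow_mk_iso_iff (Arrow.isoMk ((Over.forget T).mapIso (F.mapIso w.symm))
      ((Over.forget T).mapIso (F.mapIso w'.symm)) (by
        show (F.map w.inv).left ≫ (F.map (dpt φ)).left = (F.map (gHom p w w' φ)).left ≫ (F.map w'.inv).left
        rw [← Over.comp_left, ← Over.comp_left, ← F.map_comp, ← F.map_comp, gHom, Category.assoc, Category.assoc,
          w'.hom_inv_id, Category.comp_id]
        rfl))
  rw [h1, ← map_gHom p w w' hφ κ hκ, h2]

end Groth.Agent.MultHom
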