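import Groth.Agent.MultEqLib.Piece
import Groth.Agent.EqNhdLib.Rigid

/-!
A homomorphism between split groups of multiplicative type is, near every point, given by a map of character groups.
-/

set_option autoImplicit false
set_option backward.isDefEq.respectTransparency false

noncomputable section

universe u

open CategoryTheory CategoryTheory.Limits MonoidalCategory CartesianMonoidalCategory AlgebraicGeometry CoactBr
open scoped MonObj TensorProduct

namespace Groth.Agent.MultHom

open Groth.Agent.FreeAct (DA chr)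
open Groth.Agent.EqNhd (cf cf_single ext_cf)
open Groth.Agent.MonoLocus (hpt hpt_surjective hpt_injective)
open Groth.Agent.MultEq (hpt_natural comul_eq_of_points exists_charMap LE)

attribute [local instance] CoactBr.braidedAlgSpecOf

section Alg

variable {R : Type u} [CommRing R] {X : Type} [CommGroup X]

/-- The coefficients of an element squared by the diagonal are orthogonal idempotents. -/
theorem cf_mul_cf [DecidableEq X] (a : MonoidAlgebra R X)
    (h : MonoidAlgebra.mapDomainAlgHom R R ((MonoidHom.id X).prod (MonoidHom.id X)) a =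
      MonoidAlgebra.mapDomainAlgHom R R (MonoidHom.inl X X) a *
        MonoidAlgebra.mapDomainAlgHom R R (MonoidHom.inr X X) a) (x y : X) :
    cf x a * cf y a = if y = x then cf x a else 0 := by
  let d := (MonoidAlgebra.mapDomainAlgHom R R ((MonoidHom.id X).prod (MonoidHom.id X))).toLinearMap
  let l := (MonoidAlgebra.mapDomainAlgHom R R (MonoidHom.inl X X)).toLinearMap
  let r := (MonoidAlgebra.mapDomainAlgHom R R (MonoidHom.inr X X)).toLinearMap
  have h1 : ∀ b, cf (x, y) (d b) = if y = x then cf x b else 0 := by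
    intro b
    by_cases hxy : y = x
    · subst hxy
      rw [if_pos rfl]
      refine DFunLike.congr_fun (f := (cf (y, y)).comp d) (g := cf y)
        ((MonoidAlgebra.basis X R).ext fun z => ?_) b
      simp [d, cf_single]
    · rw [if_neg hxy]
      refine DFunLike.congr_fun (f := (cf (x, y)).comp d) (g := (0 : MonoidAlgebra R X →ₗ[R] R))
        ((MonoidAlgebra.basis X R).ext fun z => ?_) b
      simp [d, cf_single]
      rintro rfl rfl
      exact (hxy rfl).elim
  have h2 : ∀ b c, cf (x, y) (l b * r c) = cf x b * cf y c := by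
    intro b c
    refine DFunLike.congr_fun (DFunLike.congr_fun (f := ((LinearMap.mul R (MonoidAlgebra R (X × X))).compl₁₂ l r).compr₂ (cf (x, y)))
      (g := (LinearMap.mul R R).compl₁₂ (cf x) (cf y))
      ((MonoidAlgebra.basis X R).ext fun z => (MonoidAlgebra.basis X R).ext fun z' => ?_) b) c
    simp [l, r, cf_single, MonoidAlgebra.single_mul_single, Prod.ext_iff]
    split_ifs <;> simp_all
  have := congrArg (cf (R' := R) (x, y)) h
  exact ((h1 a).symm.trans (this.trans (h2 a a))).symm

/-- Where the coefficient at `x` is a unit, such an element is the character `x`. -/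
theorem chr_eq_of_isUnit (a : MonoidAlgebra R X)
    (h : MonoidAlgebra.mapDomainAlgHom R R ((MonoidHom.id X).prod (MonoidHom.id X)) a =
      MonoidAlgebra.mapDomainAlgHom R R (MonoidHom.inl X X) a *
        MonoidAlgebra.mapDomainAlgHom R R (MonoidHom.inr X X) a) (x : X) {A : Type u} [CommRing A] [Algebra R A]
    (L : MonoidAlgebra R X →ₐ[R] A) (hx : IsUnit (algebraMap R A (cf x a))) :
    L a = L (MonoidAlgebra.single x 1) := by
  classical
  have h1 : cf x a • a = cf x a • MonoidAlgebra.single x 1 := by
    refine ext_cf fun y => ?_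
    rw [map_smul, map_smul, cf_single, smul_eq_mul, smul_eq_mul, cf_mul_cf a h x y]
    by_cases hxy : y = x
    · subst hxy; simp
    · simp [hxy, Ne.symm hxy]
  have h2 := congrArg L h1
  rw [map_smul, map_smul, Algebra.smul_def, Algebra.smul_def] at h2
  exact hx.mul_left_cancel h2

end Alg

variable {S : Scheme.{u}} {G H : Over S} [GrpObj G] [GrpObj H] {R : Type u} [CommRing R]
  {M M' : Type} [AddCommGroup M] [AddCommGroup M'] (p : Spec (CommRingCat.of R) ⟶ S)
  (w : sp R (DA R M) ≅ Red.bc p G) (w' : sp R (DA R M') ≅ Red.bc p H)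

/-- On the basic open where `r` is invertible, `u` is given by the map of character groups `φ`. -/
def IsChar (u : G ⟶ H) (r : R) (φ : Multiplicative M' →* Multiplicative M) : Prop :=
  ∀ (A : Type u) [CommRing A] [Algebra R A], IsUnit (algebraMap R A r) → ∀ χ : Multiplicative M →* A,
    hpt p w χ ≫ u = hpt p w' (χ.comp φ)

theorem exists_isChar [IsMonHom w.hom] [IsMonHom w'.hom] [AddGroup.FG M'] (u : G ⟶ H) [IsMonHom u]
    (t : PrimeSpectrum R) :
    ∃ r : R, r ∉ t.asIdeal ∧ ∃ φ : Multiplicative M' →* Multiplicative M, IsChar p w w' u r φ := by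
  classical
  let D : Type u := DA R M
  let χ₀ : Multiplicative M →* D := MonoidAlgebra.of R (Multiplicative M)
  obtain ⟨χ', hχ'⟩ := hpt_surjective p w' (hpt p w χ₀ ≫ u)
  have hh : hpt p w' χ' ≫ 𝟙 H = hpt p w χ₀ ≫ u := by rw [Category.comp_id, hχ']
  have hsq : ∀ m, MonoidAlgebra.mapDomainAlgHom R R ((MonoidHom.id _).prod (MonoidHom.id _)) (χ' m) =
      MonoidAlgebra.mapDomainAlgHom R R (MonoidHom.inl (Multiplicative M) (Multiplicative M)) (χ' m) *
        MonoidAlgebra.mapDomainAlgHom R R (MonoidHom.inr (Multiplicative M) (Multiplicative M)) (χ' m) :=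
    fun m => comul_eq_of_points p w w' χ₀ χ' hh _ _ _
      (fun k => by simp [χ₀, D, MonoidAlgebra.single_mul_single]) m
  let F := t.asIdeal.ResidueField
  obtain ⟨φ, hφ⟩ := exists_charMap p w w' (i := u) (i' := 𝟙 H) (algebraMap R F)
    (fun Y q _ h => ⟨h ≫ u, Category.comp_id _⟩)
  let DF : Type u := MonoidAlgebra F (Multiplicative M)
  let LF : D →ₐ[R] DF := chr (R := R) DF (MonoidAlgebra.of F (Multiplicative M))
  have hcoef : ∀ (x : Multiplicative M) (a : D), cf x (LF a) = algebraMap R F (cf x a) := by
    intro x a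
    refine DFunLike.congr_fun (f := ((cf x).restrictScalars R).comp LF.toLinearMap)
      (g := (Algebra.linearMap R F).comp (cf x)) ((MonoidAlgebra.basis (Multiplicative M) R).ext fun z => ?_) a
    simp [LF, DF, chr, cf_single]
  have hLF : LF.toRingHom.toMonoidHom.comp χ₀ = MonoidAlgebra.of F (Multiplicative M) :=
    MonoidHom.ext fun m => by simp [LF, χ₀, D, chr]
  have hval : ∀ m, LF (χ' m) = MonoidAlgebra.single (φ m) (1 : F) := by
    intro m
    have h1 : hpt p w' (LF.toRingHom.toMonoidHom.comp χ') =
        hpt p w' ((MonoidAlgebra.of F (Multiplicative M)).comp φ) := by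
      rw [← hpt_natural, ← hχ', ← Category.assoc, hpt_natural, hLF,
        ← hφ DF (algebraMap F DF) (IsScalarTower.algebraMap_eq R F DF).symm]
      exact Category.comp_id _
    exact DFunLike.congr_fun (hpt_injective p w' h1) m
  obtain ⟨s, hs⟩ : ∃ s : Finset (Multiplicative M'), Subgroup.closure (s : Set (Multiplicative M')) = ⊤ :=
    Group.FG.out
  refine ⟨∏ m ∈ s, cf (φ m) (χ' m), fun hmem => ?_, φ, fun A _ _ hA χ => ?_⟩
  · obtain ⟨m, -, hm⟩ := t.isPrime.prod_mem_iff.1 hmem
    have h1 : cf (φ m) (LF (χ' m)) = 0 := by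
      rw [hcoef]
      exact Ideal.algebraMap_residueField_eq_zero.2 hm
    rw [hval, cf_single, if_pos rfl] at h1
    exact one_ne_zero h1
  · let L : D →ₐ[R] A := chr (R := R) A χ
    have hL : L.toRingHom.toMonoidHom.comp χ₀ = χ := MonoidHom.ext fun m => by simp [L, χ₀, D, chr]
    rw [← hL, ← hpt_natural, Category.assoc, hχ', hpt_natural, hL]
    refine congrArg (hpt p w') (MonoidHom.eq_of_eqOn_dense hs fun m hm => ?_)
    rw [map_prod, IsUnit.prod_iff] at hA
    exact (chr_eq_of_isUnit (χ' m) (hsq m) (φ m) L (hA m hm)).trans (by simp [L, chr])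

end Groth.Agent.MultHom
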