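import Groth.Agent.MultHomLib.Char

/-!
A multiplicative family of group-like elements of a finite group algebra is a partition of unity indexed by the maps
of groups.
-/

set_option autoImplicit false
set_option backward.isDefEq.respectTransparency false

noncomputable section

universe u

namespace Groth.Agent.MultHom

open Groth.Agent.EqNhd (cf cf_single ext_cf)
open Groth.Agent.FreeAct (chr)

variable {R : Type u} [CommRing R] {M M' : Type} [AddCommGroup M] [AddCommGroup M']

/-- Squared by the diagonal and sent to one by the counit. -/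
def GroupLikeFam (χ' : Multiplicative M' →* MonoidAlgebra R (Multiplicative M)) : Prop :=
  ∀ m, MonoidAlgebra.mapDomainAlgHom R R ((MonoidHom.id _).prod (MonoidHom.id _)) (χ' m) =
      MonoidAlgebra.mapDomainAlgHom R R (MonoidHom.inl (Multiplicative M) (Multiplicative M)) (χ' m) *
        MonoidAlgebra.mapDomainAlgHom R R (MonoidHom.inr (Multiplicative M) (Multiplicative M)) (χ' m) ∧
    chr (R := R) R (1 : Multiplicative M →* R) (χ' m) = 1

variable {χ' : Multiplicative M' →* MonoidAlgebra R (Multiplicative M)} (h : GroupLikeFam χ') [Fintype M] [Fintype M']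

include h in
theorem sum_cf (m : Multiplicative M') : ∑ x, cf x (χ' m) = 1 := by
  classical
  rw [← (h m).2]
  refine (LinearMap.sum_apply Finset.univ (fun x => cf (R' := R) x) (χ' m)).symm.trans ?_
  refine DFunLike.congr_fun (f := ∑ x, cf (R' := R) x) (g := (chr (R := R) R (1 : Multiplicative M →* R)).toLinearMap)
    ((MonoidAlgebra.basis (Multiplicative M) R).ext fun y => ?_) (χ' m)
  simp [chr, cf_single]

include h in
theorem exists_hom_not_mem (t : PrimeSpectrum R) :
    ∃ φ : Multiplicative M' →* Multiplicative M, ∀ m, cf (φ m) (χ' m) ∉ t.asIdeal := by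
  classical
  have hex : ∀ m, ∃ x, cf x (χ' m) ∉ t.asIdeal := fun m => by
    by_contra hne
    simp only [not_exists, not_not] at hne
    exact t.isPrime.ne_top ((Ideal.eq_top_iff_one _).2 (sum_cf h m ▸ Ideal.sum_mem _ fun x _ => hne x))
  choose x hx using hex
  let F := t.asIdeal.ResidueField
  let L : MonoidAlgebra R (Multiplicative M) →ₐ[R] MonoidAlgebra F (Multiplicative M) :=
    chr (R := R) _ (MonoidAlgebra.of F (Multiplicative M))
  have hL : ∀ m, L (χ' m) = MonoidAlgebra.single (x m) (1 : F) := fun m => by
    rw [chr_eq_of_isUnit (χ' m) (h m).1 (x m) L ?_]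
    · simp [L, chr]
    · rw [IsScalarTower.algebraMap_apply R F (MonoidAlgebra F (Multiplicative M))]
      exact (Ne.isUnit fun hne => hx m (Ideal.algebraMap_residueField_eq_zero.1 hne)).map _
  have hinj : Function.Injective fun y : Multiplicative M => (MonoidAlgebra.single y (1 : F)) :=
    fun a b hab => by simpa using MonoidAlgebra.single_left_injective one_ne_zero hab
  refine ⟨{ toFun := x, map_one' := hinj ?_, map_mul' := fun a b => hinj ?_ }, hx⟩
  · show MonoidAlgebra.single (x 1) (1 : F) = MonoidAlgebra.single 1 1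
    rw [← hL, map_one, map_one]
    rfl
  · show MonoidAlgebra.single (x (a * b)) (1 : F) = MonoidAlgebra.single (x a * x b) 1
    rw [← hL, map_mul, map_mul, hL, hL, MonoidAlgebra.single_mul_single, one_mul]

/-- The idempotent of a map of groups. -/
def idem (χ' : Multiplicative M' →* MonoidAlgebra R (Multiplicative M)) (φ : Multiplicative M' →* Multiplicative M) : R :=
  ∏ m, cf (φ m) (χ' m)

include h in
theorem idem_orthogonal {φ ψ : Multiplicative M' →* Multiplicative M} (hne : φ ≠ ψ) : idem χ' φ * idem χ' ψ = 0 := by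
  classical
  obtain ⟨m, hm⟩ := DFunLike.ne_iff.1 hne
  rw [idem, idem, ← Finset.prod_mul_distrib]
  refine Finset.prod_eq_zero (Finset.mem_univ m) ?_
  rw [cf_mul_cf _ (h m).1, if_neg (Ne.symm hm)]

include h in
theorem idem_idempotent (φ : Multiplicative M' →* Multiplicative M) : IsIdempotentElem (idem χ' φ) := by
  classical
  show idem χ' φ * idem χ' φ = idem χ' φ
  rw [idem, ← Finset.prod_mul_distrib]
  exact Finset.prod_congr rfl fun m _ => by rw [cf_mul_cf _ (h m).1, if_pos rfl]

include h in
theorem sum_idem [Fintype (Multiplicative M' →* Multiplicative M)] :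
    ∑ φ : Multiplicative M' →* Multiplicative M, idem χ' φ = 1 := by
  classical
  have hi : IsIdempotentElem (∑ φ : Multiplicative M' →* Multiplicative M, idem χ' φ) := by
    show _ * _ = _
    rw [Finset.sum_mul_sum]
    refine Finset.sum_congr rfl fun φ _ => ?_
    rw [Finset.sum_eq_single φ (fun ψ _ hne => idem_orthogonal h (Ne.symm hne)) (by simp), idem_idempotent h φ]
  refine (IsIdempotentElem.iff_eq_one_of_isUnit ?_).1 hi
  by_contra hne
  obtain ⟨P, hP, hmem⟩ := exists_max_ideal_of_mem_nonunits hne
  obtain ⟨φ, hφ⟩ := exists_hom_not_mem h ⟨P, hP.isPrime⟩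
  have h1 : idem χ' φ * ∑ ψ : Multiplicative M' →* Multiplicative M, idem χ' ψ = idem χ' φ := by
    rw [Finset.mul_sum, Finset.sum_eq_single φ (fun ψ _ hne' => idem_orthogonal h (Ne.symm hne')) (by simp),
      idem_idempotent h φ]
  have h2 : idem χ' φ ∈ P := by rw [← h1]; exact P.mul_mem_left _ hmem
  obtain ⟨m, -, hm⟩ := hP.isPrime.prod_mem_iff.1 h2
  exact hφ m hm

include h in
theorem idem_smul (φ : Multiplicative M' →* Multiplicative M) (m : Multiplicative M') :
    idem χ' φ • χ' m = idem χ' φ • MonoidAlgebra.single (φ m) (1 : R) := by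
  classical
  have h1 : cf (φ m) (χ' m) • χ' m = cf (φ m) (χ' m) • MonoidAlgebra.single (φ m) (1 : R) := by
    refine ext_cf fun y => ?_
    rw [map_smul, map_smul, cf_single, smul_eq_mul, smul_eq_mul, cf_mul_cf _ (h m).1]
    by_cases hy : y = φ m
    · subst hy; simp
    · simp [hy, Ne.symm hy]
  rw [idem, ← Finset.prod_erase_mul _ _ (Finset.mem_univ m), mul_smul, h1, ← mul_smul]

end Groth.Agent.MultHom
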