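import Groth.Agent.MultHomLib.FinAlg
import Groth.Agent.FinHomLib.HomGrp

/-!
Over a base where two finite groups of multiplicative type are split the scheme of homomorphisms is a finite sum of
copies of the base.
-/

set_option autoImplicit false
set_option backward.isDefEq.respectTransparency false

noncomputable section

universe u

open CategoryTheory CategoryTheory.Limits MonoidalCategory CartesianMonoidalCategory AlgebraicGeometry CoactBr
open scoped MonObj TensorProduct

namespace Groth.Agent.MultHom

open Groth.Agent.FreeAct (DA chr)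
open Groth.Agent.MonoLocus (hpt hpt_mul hpt_one hpt_injective hpt_surjective)
open Groth.Agent.MultEq (hpt_natural)
open Groth.Agent.FinHom (tst tmap apt apt_comp apt_bijective prd isIso_prd)

attribute [local instance] CoactBr.braidedAlgSpecOf

variable {S : Scheme.{u}} {G H : Over S} [GrpObj G] [GrpObj H] {R : Type u} [CommRing R]
  {M M' : Type} [AddCommGroup M] [AddCommGroup M'] (p : Spec (CommRingCat.of R) ⟶ S)
  (w : sp R (DA R M) ≅ Red.bc p G) (w' : sp R (DA R M') ≅ Red.bc p H)

/-- The chart of `G` given by a splitting. -/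
def gch : Spec (CommRingCat.of (DA R M)) ⟶ G.left :=
  (((Over.mapPullbackAdj p).homEquiv (sp R (DA R M)) G).symm w.hom).left

theorem isPullback_gch :
    IsPullback (gch p w) (Spec.map (CommRingCat.ofHom (algebraMap R (DA R M)))) G.hom p := by
  have h1 : gch p w = w.hom.left ≫ pullback.fst G.hom p := by simp [gch, Over.mapPullbackAdj]
  let e : Spec (CommRingCat.of (DA R M)) ≅ pullback G.hom p := (Over.forget _).mapIso w
  refine (IsPullback.of_hasPullback G.hom p).of_iso e.symm (Iso.refl _) (Iso.refl _) (Iso.refl _) ?_ ?_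
    (by simp) (by simp)
  · rw [Iso.refl_hom, Category.comp_id, h1]
    exact (e.inv_hom_id_assoc _).symm
  · rw [Iso.refl_hom, Category.comp_id]
    exact ((congrArg (e.inv ≫ ·) (Over.w w.hom)).symm.trans (e.inv_hom_id_assoc _)).symm

theorem apt_gch {D : Type u} [CommRing D] [Algebra R D] (χ : Multiplicative M →* D) :
    apt p (isPullback_gch p w) (chr (R := R) D χ) = hpt p w χ :=
  Over.OverMorphism.ext rfl

/-- The family of homomorphisms over the base given by a map of character groups. -/
def phi (ψ : Multiplicative M' →* Multiplicative M) : G ⊗ tst p R ⟶ H :=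
  haveI := isIso_prd p (isPullback_gch p w) R
  inv (prd p (isPullback_gch p w) R) ≫ hpt p w'
    ((Algebra.TensorProduct.includeRight : DA R M →ₐ[R] R ⊗[R] DA R M).toRingHom.toMonoidHom.comp
      ((MonoidAlgebra.of R (Multiplicative M)).comp ψ))

theorem phi_apply (ψ : Multiplicative M' →* Multiplicative M) {D : Type u} [CommRing D] [Algebra R D]
    (χ : Multiplicative M →* D) :
    lift (hpt p w χ) (tmap p (Algebra.ofId R D)) ≫ phi p w w' ψ = hpt p w' (χ.comp ψ) := by
  haveI := isIso_prd p (isPullback_gch p w) R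
  let L : R ⊗[R] DA R M →ₐ[R] D :=
    Algebra.TensorProduct.lift (Algebra.ofId R D) (chr (R := R) D χ) fun _ _ => Commute.all _ _
  have h1 : tmap p L ≫ prd p (isPullback_gch p w) R = lift (hpt p w χ) (tmap p (Algebra.ofId R D)) := by
    rw [prd, comp_lift, apt_comp, show L.comp Algebra.TensorProduct.includeRight = chr (R := R) D χ from
      AlgHom.ext fun b => by simp [L], apt_gch]
    refine congrArg (lift _ ·) (Over.OverMorphism.ext ?_)
    show Spec.map _ ≫ Spec.map _ = Spec.map _
    rw [← Spec.map_comp]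
    exact congrArg Spec.map (CommRingCat.hom_ext (RingHom.ext fun r => by simp [L]))
  rw [← h1, phi, Category.assoc, IsIso.hom_inv_id_assoc]
  refine (hpt_natural p w' L _).trans (congrArg (hpt p w') (MonoidHom.ext fun m => ?_))
  simp [L, chr]

theorem isHomFamily_phi [IsMonHom w.hom] [IsMonHom w'.hom] (ψ : Multiplicative M' →* Multiplicative M) :
    AutFam.IsHomFamily G H (phi p w w' ψ) := by
  intro X g₁ g₂ t
  refine Over.OverMorphism.ext (X.left.affineOpenCover.openCover.hom_ext _ _ fun k => ?_)
  let D : Type u := X.left.affineOpenCover.X k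
  let f : Spec (CommRingCat.of D) ⟶ X.left := X.left.affineOpenCover.f k
  obtain ⟨b, hb⟩ := Spec.map_surjective (f ≫ t.left)
  letI : Algebra R D := b.hom.toAlgebra
  have hid : Spec.map (CommRingCat.ofHom (algebraMap R R)) = 𝟙 (Spec (CommRingCat.of R)) := by
    rw [Algebra.algebraMap_self, CommRingCat.ofHom_id, Spec.map_id]
  let e : tst p D ⟶ X := Over.homMk f (by
    show f ≫ X.hom = Spec.map (CommRingCat.ofHom b.hom) ≫ p
    rw [← Over.w t, ← Category.assoc, ← hb]
    show Spec.map b ≫ Spec.map _ ≫ p = _
    rw [hid, Category.id_comp, CommRingCat.ofHom_hom])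
  have ht : e ≫ t = tmap p (Algebra.ofId R D) := Over.OverMorphism.ext hb.symm
  obtain ⟨χ₁, h₁⟩ := hpt_surjective p w (e ≫ g₁)
  obtain ⟨χ₂, h₂⟩ := hpt_surjective p w (e ≫ g₂)
  have hval : ∀ (g : X ⟶ G) (χ : Multiplicative M →* D), e ≫ g = hpt p w χ →
      e ≫ lift g t ≫ phi p w w' ψ = hpt p w' (χ.comp ψ) := fun g χ hg => by
    rw [comp_lift_assoc, hg, ht, phi_apply]
  have key : e ≫ lift (g₁ * g₂) t ≫ phi p w w' ψ =
      e ≫ ((lift g₁ t ≫ phi p w w' ψ) * (lift g₂ t ≫ phi p w w' ψ)) := by
    rw [hval (g₁ * g₂) (χ₁ * χ₂) (by rw [MonObj.comp_mul, h₁, h₂]; exact (hpt_mul p w χ₁ χ₂).symm),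
      MonObj.comp_mul, hval g₁ χ₁ h₁, hval g₂ χ₂ h₂, MonoidHom.mul_comp, hpt_mul]
  exact congrArg CommaMorphism.left key

variable {A : Over S} (υ : G ⊗ A ⟶ H) {W : Type u} [CommRing W] [Algebra R W] {c : Spec (CommRingCat.of W) ⟶ A.left}
  (hA : IsPullback c (Spec.map (CommRingCat.ofHom (algebraMap R W))) A.hom p)

/-- The characters of the value of the family at a point. -/
def val {D : Type u} [CommRing D] [Algebra R D] (L : W →ₐ[R] D) (χ : Multiplicative M →* D) :
    Multiplicative M' →* D :=
  Classical.choose (hpt_surjective p w' (lift (hpt p w χ) (apt p hA L) ≫ υ))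

theorem val_spec {D : Type u} [CommRing D] [Algebra R D] (L : W →ₐ[R] D) (χ : Multiplicative M →* D) :
    lift (hpt p w χ) (apt p hA L) ≫ υ = hpt p w' (val p w w' υ hA L χ) :=
  Classical.choose_spec (hpt_surjective p w' (lift (hpt p w χ) (apt p hA L) ≫ υ))

theorem val_natural {D D' : Type u} [CommRing D] [Algebra R D] [CommRing D'] [Algebra R D'] (f : D →ₐ[R] D')
    (L : W →ₐ[R] D) (χ : Multiplicative M →* D) :
    val p w w' υ hA (f.comp L) (f.toRingHom.toMonoidHom.comp χ) =
      f.toRingHom.toMonoidHom.comp (val p w w' υ hA L χ) := by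
  apply hpt_injective p w'
  rw [← val_spec, ← hpt_natural p w' f, ← val_spec, ← Category.assoc, ← apt_comp]
  refine congrArg (· ≫ υ) ?_
  rw [← hpt_natural p w f]
  exact (comp_lift (tmap p f) (hpt p w χ) (apt p hA L)).symm

theorem val_mul [IsMonHom w.hom] [IsMonHom w'.hom] (hυ : AutFam.IsHomFamily G H υ) {D : Type u} [CommRing D]
    [Algebra R D] (L : W →ₐ[R] D) (χ χ' : Multiplicative M →* D) :
    val p w w' υ hA L (χ * χ') = val p w w' υ hA L χ * val p w w' υ hA L χ' := by
  apply hpt_injective p w'
  rw [← val_spec, hpt_mul p w χ χ', hpt_mul p w', ← val_spec, ← val_spec]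
  exact hυ _ _ _ _

theorem val_one [IsMonHom w.hom] [IsMonHom w'.hom] (hυ : AutFam.IsHomFamily G H υ) {D : Type u} [CommRing D]
    [Algebra R D] (L : W →ₐ[R] D) : val p w w' υ hA L (1 : Multiplicative M →* D) = 1 := by
  refine MonoidHom.ext fun m => ?_
  have h := DFunLike.congr_fun (val_mul p w w' υ hA hυ L 1 1) m
  rw [one_mul, MonoidHom.mul_apply] at h
  have hu : IsUnit (val p w w' υ hA L (1 : Multiplicative M →* D) m) :=
    ((Group.isUnit m).map (val p w w' υ hA L (1 : Multiplicative M →* D)))
  exact hu.mul_left_cancel ((h.symm.trans (mul_one _).symm) : _ = val p w w' υ hA L (1 : Multiplicative M →* D) m * 1)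

/-- The universal family of group-like elements. -/
def uchi : Multiplicative M' →* MonoidAlgebra W (Multiplicative M) :=
  val p w w' υ hA ((Algebra.ofId W (MonoidAlgebra W (Multiplicative M))).restrictScalars R)
    (MonoidAlgebra.of W (Multiplicative M))

theorem val_eq {D : Type u} [CommRing D] [Algebra R D] (L : W →ₐ[R] D) (χ : Multiplicative M →* D) :
    letI := L.toRingHom.toAlgebra
    val p w w' υ hA L χ =
      (MonoidAlgebra.lift W D (Multiplicative M) χ).toRingHom.toMonoidHom.comp (uchi p w w' υ hA) := by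
  letI := L.toRingHom.toAlgebra
  haveI : IsScalarTower R W D := IsScalarTower.of_algebraMap_eq fun r => (L.commutes r).symm
  let f : MonoidAlgebra W (Multiplicative M) →ₐ[R] D :=
    (MonoidAlgebra.lift W D (Multiplicative M) χ).restrictScalars R
  have h := val_natural p w w' υ hA f ((Algebra.ofId W (MonoidAlgebra W (Multiplicative M))).restrictScalars R)
    (MonoidAlgebra.of W (Multiplicative M))
  have e1 : f.comp ((Algebra.ofId W (MonoidAlgebra W (Multiplicative M))).restrictScalars R) = L :=
    AlgHom.ext fun x => (MonoidAlgebra.lift W D (Multiplicative M) χ).commutes x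
  have e2 : f.toRingHom.toMonoidHom.comp (MonoidAlgebra.of W (Multiplicative M)) = χ :=
    MonoidHom.ext fun m => by simp [f]
  rw [e1, e2] at h
  exact h

theorem groupLikeFam_uchi [IsMonHom w.hom] [IsMonHom w'.hom] (hυ : AutFam.IsHomFamily G H υ) :
    GroupLikeFam (uchi p w w' υ hA) := by
  intro m
  let D₂ : Type u := MonoidAlgebra W (Multiplicative M × Multiplicative M)
  let L₀ : W →ₐ[R] MonoidAlgebra W (Multiplicative M) :=
    (Algebra.ofId W (MonoidAlgebra W (Multiplicative M))).restrictScalars R
  have hmap : ∀ f : Multiplicative M →* Multiplicative M × Multiplicative M,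
      MonoidAlgebra.mapDomainAlgHom W W f (uchi p w w' υ hA m) =
        val p w w' υ hA ((Algebra.ofId W D₂).restrictScalars R)
          ((MonoidAlgebra.of W _).comp f : Multiplicative M →* D₂) m := by
    intro f
    let F : MonoidAlgebra W (Multiplicative M) →ₐ[R] D₂ := (MonoidAlgebra.mapDomainAlgHom W W f).restrictScalars R
    have h := val_natural p w w' υ hA F L₀ (MonoidAlgebra.of W (Multiplicative M))
    rw [show F.comp L₀ = (Algebra.ofId W D₂).restrictScalars R from
        AlgHom.ext fun x => (MonoidAlgebra.mapDomainAlgHom W W f).commutes x,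
      show F.toRingHom.toMonoidHom.comp (MonoidAlgebra.of W (Multiplicative M)) =
        (MonoidAlgebra.of W _).comp f from MonoidHom.ext fun k => by
          show MonoidAlgebra.mapDomainAlgHom W W f (MonoidAlgebra.single k 1) = MonoidAlgebra.single (f k) 1
          simp] at h
    exact (DFunLike.congr_fun h m).symm
  refine ⟨?_, ?_⟩
  · rw [hmap, hmap, hmap, ← MonoidHom.mul_apply, ← val_mul p w w' υ hA hυ]
    exact DFunLike.congr_fun (congrArg _ (MonoidHom.ext fun k => by simp [MonoidAlgebra.single_mul_single, D₂])) m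
  · let F : MonoidAlgebra W (Multiplicative M) →ₐ[R] W := (chr (R := W) W (1 : Multiplicative M →* W)).restrictScalars R
    have h := val_natural p w w' υ hA F L₀ (MonoidAlgebra.of W (Multiplicative M))
    rw [show F.toRingHom.toMonoidHom.comp (MonoidAlgebra.of W (Multiplicative M)) =
        (1 : Multiplicative M →* W) from MonoidHom.ext fun k => by simp [F, chr],
      val_one p w w' υ hA hυ] at h
    exact (DFunLike.congr_fun h m).symm

theorem hom_eq (hrep : AutFam.RepresentsHom G H A υ) {D : Type u} [CommRing D] [Algebra R D] (L₁ L₂ : W →ₐ[R] D)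
    (h : val p w w' υ hA ((IsScalarTower.toAlgHom R D (MonoidAlgebra D (Multiplicative M))).comp L₁)
        (MonoidAlgebra.of D (Multiplicative M)) =
      val p w w' υ hA ((IsScalarTower.toAlgHom R D (MonoidAlgebra D (Multiplicative M))).comp L₂)
        (MonoidAlgebra.of D (Multiplicative M))) : L₁ = L₂ := by
  haveI := isIso_prd p (isPullback_gch p w) D
  let g : MonoidAlgebra D (Multiplicative M) →ₐ[R] D ⊗[R] DA R M :=
    (MonoidAlgebra.scalarTensorEquiv (M := Multiplicative M) R D).symm.toAlgHom.restrictScalars R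
  let χD : Multiplicative M →* D ⊗[R] DA R M :=
    (Algebra.TensorProduct.includeRight : DA R M →ₐ[R] D ⊗[R] DA R M).toRingHom.toMonoidHom.comp
      (MonoidAlgebra.of R (Multiplicative M))
  have hg1 : g.toRingHom.toMonoidHom.comp (MonoidAlgebra.of D (Multiplicative M)) = χD :=
    MonoidHom.ext fun m => by simp [g, χD, MonoidAlgebra.scalarTensorEquiv_symm_single]
  have hg2 : g.comp (IsScalarTower.toAlgHom R D (MonoidAlgebra D (Multiplicative M))) =
      Algebra.TensorProduct.includeLeft :=
    AlgHom.ext fun d => (MonoidAlgebra.scalarTensorEquiv (M := Multiplicative M) R D).symm.commutes d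
  have h' : ∀ L : W →ₐ[R] D, prd p (isPullback_gch p w) D ≫ (G ◁ apt p hA L) ≫ υ =
      hpt p w' (g.toRingHom.toMonoidHom.comp (val p w w' υ hA
        ((IsScalarTower.toAlgHom R D (MonoidAlgebra D (Multiplicative M))).comp L)
        (MonoidAlgebra.of D (Multiplicative M)))) := by
    intro L
    rw [← val_natural, hg1, ← AlgHom.comp_assoc, hg2, ← val_spec, prd, lift_whiskerLeft_assoc, apt_comp, ← apt_gch]
    refine congrArg (fun a => lift (apt p (isPullback_gch p w) a) _ ≫ υ) ?_
    exact AlgHom.toLinearMap_injective ((MonoidAlgebra.basis (Multiplicative M) R).ext fun m => by simp [chr, χD])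
  have h3 : (G ◁ apt p hA L₁) ≫ υ = (G ◁ apt p hA L₂) ≫ υ := by
    rw [← cancel_epi (prd p (isPullback_gch p w) D), h', h', h]
  refine (apt_bijective p hA D).1 ?_
  refine (hrep.2 _ ((G ◁ apt p hA L₂) ≫ υ) ?_).unique h3 rfl
  intro X g₁ g₂ t
  simp only [lift_whiskerLeft_assoc]
  exact hrep.1 X g₁ g₂ _

theorem exists_point [IsMonHom w.hom] [IsMonHom w'.hom] (hrep : AutFam.RepresentsHom G H A υ)
    (ψ : Multiplicative M' →* Multiplicative M) :
    ∃ L : W →ₐ[R] R, ∀ (D : Type u) [CommRing D] [Algebra R D] (χ : Multiplicative M →* D),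
      val p w w' υ hA ((Algebra.ofId R D).comp L) χ = χ.comp ψ := by
  obtain ⟨a, ha, -⟩ := hrep.2 _ (phi p w w' ψ) (isHomFamily_phi p w w' ψ)
  obtain ⟨L, rfl⟩ := (apt_bijective p hA R).2 a
  refine ⟨L, fun D _ _ χ => hpt_injective p w' ?_⟩
  rw [← val_spec, ← phi_apply p w w' ψ χ, ← ha, lift_whiskerLeft_assoc, apt_comp]

include hA in
/-- The scheme of homomorphisms over the piece is the spectrum of a finite power of the base ring. -/
theorem exists_algEquiv [IsMonHom w.hom] [IsMonHom w'.hom] [Fintype M] [Fintype M']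
    (hrep : AutFam.RepresentsHom G H A υ) :
    Nonempty (W ≃ₐ[R] ((Multiplicative M' →* Multiplicative M) → R)) := by
  classical
  haveI : Finite (Multiplicative M' →* Multiplicative M) := Finite.of_injective _ DFunLike.coe_injective
  letI := Fintype.ofFinite (Multiplicative M' →* Multiplicative M)
  let χ' := uchi p w w' υ hA
  have hgl : GroupLikeFam χ' := groupLikeFam_uchi p w w' υ hA hrep.1
  choose v hv using exists_point p w w' υ hA hrep
  let ev : W →ₐ[R] ((Multiplicative M' →* Multiplicative M) → R) := Pi.algHom R _ v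
  have hcoef : ∀ (ψ : Multiplicative M' →* Multiplicative M) (x : Multiplicative M) (m : Multiplicative M'),
      v ψ (EqNhd.cf x (χ' m)) = if ψ m = x then 1 else 0 := by
    intro ψ x m
    letI := ((Algebra.ofId R (DA R M)).comp (v ψ)).toRingHom.toAlgebra
    have h1 : MonoidAlgebra.lift W (DA R M) (Multiplicative M) (MonoidAlgebra.of R (Multiplicative M)) (χ' m) =
        MonoidAlgebra.single (ψ m) (1 : R) :=
      (DFunLike.congr_fun ((val_eq p w w' υ hA ((Algebra.ofId R (DA R M)).comp (v ψ))
        (MonoidAlgebra.of R (Multiplicative M))).symm.trans (hv ψ _ _)) m)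
    have h2 : ∀ b : MonoidAlgebra W (Multiplicative M),
        EqNhd.cf x (MonoidAlgebra.lift W (DA R M) (Multiplicative M) (MonoidAlgebra.of R (Multiplicative M)) b) =
          v ψ (EqNhd.cf x b) := by
      intro b
      induction b using MonoidAlgebra.induction_linear with
      | zero => simp
      | add y z hy hz => simp [hy, hz]
      | single k r =>
        rw [MonoidAlgebra.lift_single, Algebra.smul_def, show (MonoidAlgebra.single k r : MonoidAlgebra W (Multiplicative M)) =
          r • MonoidAlgebra.single k 1 by simp, map_smul, smul_eq_mul, EqNhd.cf_single, map_mul (v ψ),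
          show algebraMap W (DA R M) r = algebraMap R (DA R M) (v ψ r) from rfl, ← Algebra.smul_def, map_smul,
          MonoidAlgebra.of_apply, EqNhd.cf_single, smul_eq_mul]
        split_ifs <;> simp
    rw [← h2, h1, EqNhd.cf_single]
  have hvidem : ∀ ψ φ, v ψ (idem χ' φ) = if ψ = φ then 1 else 0 := by
    intro ψ φ
    rw [idem, map_prod]
    by_cases he : ψ = φ
    · subst he
      rw [if_pos rfl]
      exact Finset.prod_eq_one fun m _ => by rw [hcoef, if_pos rfl]
    · rw [if_neg he]
      obtain ⟨m, hm⟩ := DFunLike.ne_iff.1 he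
      exact Finset.prod_eq_zero (Finset.mem_univ m) (by rw [hcoef, if_neg hm])
  let βl : ((Multiplicative M' →* Multiplicative M) → R) →ₗ[R] W :=
    ∑ φ, (LinearMap.proj φ).smulRight (idem χ' φ)
  have hβl : ∀ f, βl f = ∑ φ, f φ • idem χ' φ := fun f => by simp [βl, LinearMap.sum_apply]
  let β : ((Multiplicative M' →* Multiplicative M) → R) →ₐ[R] W :=
    AlgHom.ofLinearMap βl (by rw [hβl]; simpa using sum_idem hgl) (fun f g => by
      rw [hβl, hβl, hβl, Finset.sum_mul_sum]
      refine Finset.sum_congr rfl fun φ _ => ?_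
      rw [Finset.sum_eq_single φ (fun ψ _ hne => by
        rw [smul_mul_smul_comm, idem_orthogonal hgl (Ne.symm hne), smul_zero]) (by simp)]
      rw [smul_mul_smul_comm, idem_idempotent hgl φ, Pi.mul_apply])
  have h₁ : ev.comp β = AlgHom.id R _ := AlgHom.ext fun f => funext fun ψ => by
    show v ψ (βl f) = f ψ
    rw [hβl, map_sum, Finset.sum_eq_single ψ (fun φ _ hne => by rw [map_smul, hvidem, if_neg (Ne.symm hne), smul_zero])
      (by simp), map_smul, hvidem, if_pos rfl, smul_eq_mul, mul_one]
  have h₂ : β.comp ev = AlgHom.id R W := by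
    refine hom_eq p w w' υ hA hrep _ _ (MonoidHom.ext fun m => ?_)
    let L := (IsScalarTower.toAlgHom R W (MonoidAlgebra W (Multiplicative M))).comp (β.comp ev)
    show val p w w' υ hA L (MonoidAlgebra.of W (Multiplicative M)) m = χ' m
    rw [val_eq]
    have h3 : ∀ φ, idem χ' φ • (MonoidAlgebra.single (φ m) (1 : W) : MonoidAlgebra W (Multiplicative M)) = idem χ' φ • χ' m :=
      fun φ => (idem_smul hgl φ m).symm
    have h4 : ∀ x, β (ev (EqNhd.cf x (χ' m))) = EqNhd.cf x (χ' m) := by
      intro x
      show βl _ = _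
      rw [hβl]
      conv_rhs => rw [← one_mul (EqNhd.cf x (χ' m)), ← sum_idem hgl, Finset.sum_mul]
      refine Finset.sum_congr rfl fun φ _ => ?_
      show v φ (EqNhd.cf x (χ' m)) • idem χ' φ = idem χ' φ * EqNhd.cf x (χ' m)
      have h5 := congrArg (EqNhd.cf (R' := W) x) (h3 φ)
      rw [map_smul, map_smul, EqNhd.cf_single, smul_eq_mul, smul_eq_mul] at h5
      rw [← h5, hcoef]
      split_ifs <;> simp
    letI := L.toRingHom.toAlgebra
    show MonoidAlgebra.lift W (MonoidAlgebra W (Multiplicative M)) (Multiplicative M)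
      (MonoidAlgebra.of W (Multiplicative M)) (χ' m) = χ' m
    refine EqNhd.ext_cf fun x => ?_
    have h6 : ∀ b : MonoidAlgebra W (Multiplicative M),
        EqNhd.cf x (MonoidAlgebra.lift W (MonoidAlgebra W (Multiplicative M)) (Multiplicative M)
          (MonoidAlgebra.of W (Multiplicative M)) b) = β (ev (EqNhd.cf x b)) := by
      intro b
      induction b using MonoidAlgebra.induction_linear with
      | zero => simp
      | add y z hy hz => simp [hy, hz]
      | single k r =>
        rw [MonoidAlgebra.lift_single, Algebra.smul_def]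
        show EqNhd.cf x (L r * _) = _
        rw [show L r = MonoidAlgebra.single 1 (β (ev r)) from rfl]
        simp [EqNhd.cf, Finsupp.single_apply, MonoidAlgebra.single_mul_single, MonoidAlgebra.basis]
        split_ifs <;> simp
    rw [h6, h4]
  exact ⟨AlgEquiv.ofAlgHom ev β h₁ h₂⟩

end Groth.Agent.MultHom
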